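import Cfsg.Agent.ThreeLocalEight.EightFacts
import Cfsg.Agent.S3331
import Cfsg.Agent.Classical.LinearOrder

/-!
The subgroup isomorphic to `Alt(8)` contains the centralizers of its involutions, hence is the
whole group.
-/

set_option autoImplicit false
set_option maxRecDepth 100000

namespace CfsgLib.ThreeLocalEight

open Subgroup Equiv Equiv.Perm

universe u

local notation "A8" => alternatingGroup (Fin 8)

def aY : A8 := emb (mZ * mZ')
def aRho : A8 := ⟨swap 0 3 * swap 3 5 * (swap 1 4 * swap 4 6), by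
  rw [mem_alternatingGroup]; decide +kernel⟩
def aVe : A8 := ⟨swap 0 3 * swap 1 4, by rw [mem_alternatingGroup]; decide +kernel⟩
def aK2 : A8 := ⟨swap 0 5 * swap 1 6, by rw [mem_alternatingGroup]; decide +kernel⟩
def aB : A8 := ⟨swap 0 5 * swap 3 4, by rw [mem_alternatingGroup]; decide +kernel⟩
def aT : A8 := ⟨swap 1 2 * swap 6 7, by rw [mem_alternatingGroup]; decide +kernel⟩
def aB1 : A8 := aY * aB * aY⁻¹ * aB
def aB2 : A8 := aY * aB1 * aY⁻¹

theorem et_square : ∀ a b c d : Fin 2, et a b c d * et a b c d = 1 := by decide +kernel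

theorem et_nine : ∀ a b c d : Fin 2, et a b c d ^ 9 = 1 → et a b c d = 1 := by decide +kernel

theorem et_free : ∀ a b c d : Fin 2, (∀ i, et a b c d i ≠ i) → et a b c d = pk4 := by decide +kernel

theorem et_gen : ∀ a b c d : Fin 2, Perm.sign (et a b c d) = 1 →
    ∃ i j l : Fin 2, et a b c d = pu ^ i.val * pe ^ j.val * pk4 ^ l.val := by decide +kernel

theorem aY_aJ : ∀ a b : Fin 3, emb (dd a b) * aJ = aJ * emb (dd a b) → a = b := by decide +kernel

theorem s3_aux : ∀ x w : Perm (Fin 3), x ^ 3 = 1 ∧ w ^ 2 = 1 ∧ (x * w * x⁻¹ * w) ^ 2 = 1 →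
    x * w * x⁻¹ * w = 1 := by decide

set_option synthInstance.maxSize 4096 in
theorem a5_aux : ∀ x : Perm (Fin 5), Perm.sign x = 1 ∧ x ^ 3 = 1 ∧ x ≠ 1 →
    ∀ t : Perm (Fin 5), Perm.sign t = 1 ∧ t ^ 2 = 1 ∧ t * x = x⁻¹ * t →
    ∀ w : Perm (Fin 5), Perm.sign w = 1 ∧ w ^ 2 = 1 ∧ (x * w * x⁻¹ * w) ^ 2 = 1 ∧
      (x * w) ^ 24 = 1 ∧ (t * w) ^ 24 = 1 ∧ (x * t * w) ^ 24 = 1 ∧ (x * x * t * w) ^ 24 = 1 →
    x * w * x⁻¹ * w = 1 := by decide +kernel

/-- Generators of a subgroup of order 32 centralizing `aJ`. -/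
def gens32 : Set A8 :=
  {⟨swap 0 5 * swap 1 6, by rw [mem_alternatingGroup]; decide +kernel⟩,
    ⟨swap 0 5 * swap 2 7, by rw [mem_alternatingGroup]; decide +kernel⟩,
    ⟨swap 0 5 * swap 3 4, by rw [mem_alternatingGroup]; decide +kernel⟩,
    ⟨swap 0 1 * swap 5 6 * swap 2 3 * swap 7 4, by rw [mem_alternatingGroup]; decide +kernel⟩,
    ⟨swap 0 2 * swap 5 7 * swap 1 3 * swap 6 4, by rw [mem_alternatingGroup]; decide +kernel⟩}

theorem gens32_comm : ∀ w ∈ gens32, w * aJ = aJ * w := by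
  simp only [gens32, Set.forall_mem_insert, Set.mem_singleton_iff, forall_eq]
  decide +kernel

/-- The 32 elements. -/
def el32 (q : Fin 2 × Fin 2 × Fin 2 × Fin 2 × Fin 2) : A8 :=
  ⟨(swap 0 5 * swap 1 6) ^ q.1.val * (swap 0 5 * swap 2 7) ^ q.2.1.val *
    (swap 0 5 * swap 3 4) ^ q.2.2.1.val * (swap 0 1 * swap 5 6 * swap 2 3 * swap 7 4) ^ q.2.2.2.1.val *
    (swap 0 2 * swap 5 7 * swap 1 3 * swap 6 4) ^ q.2.2.2.2.val, by
    rw [mem_alternatingGroup]; revert q; decide +kernel⟩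

theorem el32_inj : Function.Injective el32 := by
  have : ∀ q r, el32 q = el32 r → q = r := by decide +kernel
  exact this

set_option synthInstance.maxSize 4096 in
theorem el32_step : ∀ w ∈ gens32, ∀ q, ∃ r, el32 q * w = el32 r := by
  simp only [gens32, Set.forall_mem_insert, Set.mem_singleton_iff, forall_eq]
  decide +kernel

theorem card_closure32 : Nat.card (closure gens32) = 32 := by
  have hsub : ∀ x ∈ closure gens32, ∃ q, el32 q = x := by
    intro x hx
    rw [← Subgroup.mem_toSubmonoid, Subgroup.closure_toSubmonoid_of_finite] at hx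
    induction hx using Submonoid.closure_induction_right with
    | one => exact ⟨(0, 0, 0, 0, 0), by decide +kernel⟩
    | mul_right x hx y hy ih =>
      obtain ⟨q, rfl⟩ := ih
      obtain ⟨r, hr⟩ := el32_step y hy q
      exact ⟨r, hr.symm⟩
  have hmem : ∀ q, el32 q ∈ closure gens32 := fun q => by
    have e : el32 q =
        (⟨swap 0 5 * swap 1 6, by rw [mem_alternatingGroup]; decide +kernel⟩ : A8) ^ q.1.val *
        (⟨swap 0 5 * swap 2 7, by rw [mem_alternatingGroup]; decide +kernel⟩ : A8) ^ q.2.1.val *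
        (⟨swap 0 5 * swap 3 4, by rw [mem_alternatingGroup]; decide +kernel⟩ : A8) ^ q.2.2.1.val *
        (⟨swap 0 1 * swap 5 6 * swap 2 3 * swap 7 4, by rw [mem_alternatingGroup]; decide +kernel⟩
          : A8) ^ q.2.2.2.1.val *
        (⟨swap 0 2 * swap 5 7 * swap 1 3 * swap 6 4, by rw [mem_alternatingGroup]; decide +kernel⟩
          : A8) ^ q.2.2.2.2.val := Subtype.ext (by simp [el32])
    rw [e]
    refine mul_mem (mul_mem (mul_mem (mul_mem ?_ ?_) ?_) ?_) ?_ <;>
      refine pow_mem (subset_closure ?_) _ <;> simp [gens32]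
  have hb : Function.Bijective (fun q => (⟨el32 q, hmem q⟩ : closure gens32)) :=
    ⟨fun q r h => el32_inj (congrArg Subtype.val h :), fun ⟨x, hx⟩ => by
      obtain ⟨q, hq⟩ := hsub x hx; exact ⟨q, Subtype.ext hq⟩⟩
  rw [← Nat.card_congr (Equiv.ofBijective _ hb)]
  simp

theorem card_psl_two_seven :
    Nat.card (Matrix.ProjectiveSpecialLinearGroup (Fin 2) (ZMod 7)) = 168 := by
  haveI : Fact (Nat.Prime 7) := ⟨by norm_num⟩
  have h1 := CfsgLib.Linear.card_PSL_mul (F := ZMod 7) (ZMod.card 7) 2 (by norm_num)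
  norm_num [Nat.gcd] at h1
  simp_all [Finset.prod_range_succ]
  omega

/-- An involution without fixed points in a normalised subgroup inverts it. -/
theorem inverts_of_fixed_trivial {G : Type*} [Group G] [Finite G] (O : Subgroup G) (t : G)
    (ht : t * t = 1) (hn : ∀ x ∈ O, t * x * t ∈ O) (hf : ∀ x ∈ O, t * x * t = x → x = 1) :
    ∀ x ∈ O, t * x * t = x⁻¹ := by
  let f : O → O := fun x => ⟨(x : G)⁻¹ * (t * x * t), mul_mem (inv_mem x.2) (hn x x.2)⟩
  have hinj : Function.Injective f := by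
    intro a b h
    have h' : (a : G)⁻¹ * (t * a * t) = (b : G)⁻¹ * (t * b * t) := congrArg Subtype.val h
    have h1 := hf ((b : G) * (a : G)⁻¹) (mul_mem b.2 (inv_mem a.2)) ?_
    · exact Subtype.ext (mul_inv_eq_one.1 h1).symm
    · have e1 : (b : G) * (a : G)⁻¹ * (t * a * t) = t * b * t := by
        rw [mul_assoc, h', mul_inv_cancel_left]
      have ti : t⁻¹ = t := inv_eq_of_mul_eq_one_right ht
      calc t * ((b : G) * (a : G)⁻¹) * t = (t * b * t) * (t * a * t)⁻¹ := by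
            rw [mul_inv_rev, mul_inv_rev, ti,
              show t * b * t * (t * ((a : G)⁻¹ * t)) = t * b * (t * t) * (a : G)⁻¹ * t by group, ht]
            group
        _ = (b : G) * (a : G)⁻¹ := by rw [← e1, mul_inv_cancel_right]
  intro x hx
  obtain ⟨a, ha⟩ := (Finite.surjective_of_injective hinj) ⟨x, hx⟩
  have ha' : (a : G)⁻¹ * (t * a * t) = x := congrArg Subtype.val ha
  rw [← ha', show t * ((a : G)⁻¹ * (t * a * t)) * t = t * (a : G)⁻¹ * t * a * (t * t) by group, ht,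
    mul_one, mul_inv_rev, inv_inv, mul_inv_rev, mul_inv_rev, inv_eq_of_mul_eq_one_right ht]
  group

/-- An element of a subgroup of `K ⊔ ⟨t⟩`. -/
theorem mem_sup_zpowers {G : Type*} [Group G] {K : Subgroup G} {t x : G}
    (hn : t ∈ normalizer (K : Set G)) (hx : x ∈ K ⊔ zpowers t) :
    ∃ k ∈ K, ∃ i : ℤ, x = k * t ^ i := by
  have hle : zpowers t ≤ normalizer (K : Set G) := zpowers_le.2 hn
  rw [← SetLike.mem_coe, Subgroup.coe_mul_of_right_le_normalizer_left K (zpowers t) hle] at hx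
  obtain ⟨k, hk, y, hy, rfl⟩ := hx
  obtain ⟨i, rfl⟩ := mem_zpowers_iff.1 hy
  exact ⟨k, hk, i, rfl⟩

/-- The data with the embedding of `Alt(8)`. -/
structure Emb (G : Type u) [Group G] where
  C : Ctx G
  φ : A8 →* G
  inj : Function.Injective φ
  hall : ∀ m, φ (emb m) = C.α m
  hg : C.g ∈ φ.range

namespace Emb

variable {G : Type u} [Group G] [Finite G] (F : Emb G)

/-- The copy of `Alt(8)`. -/
abbrev H : Subgroup G := F.φ.range

theorem α_mem (m : LK) : F.C.α m ∈ F.H := ⟨emb m, F.hall m⟩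

theorem cent_z {x : G} (h : x * F.C.α mZ = F.C.α mZ * x) : x ∈ F.H := by
  obtain ⟨m, rfl⟩ := F.C.mem_range_of_comm h
  exact F.α_mem m

theorem cent_z' {x : G} (h : x * F.C.α mZ' = F.C.α mZ' * x) : x ∈ F.H := by
  have h1 : F.C.g * x * F.C.g⁻¹ ∈ F.H := by
    refine F.cent_z ?_
    rw [← F.C.gz']
    calc F.C.g * x * F.C.g⁻¹ * (F.C.g * F.C.α mZ' * F.C.g⁻¹)
        = F.C.g * (x * F.C.α mZ') * F.C.g⁻¹ := by group
      _ = F.C.g * (F.C.α mZ' * x) * F.C.g⁻¹ := by rw [h]
      _ = F.C.g * F.C.α mZ' * F.C.g⁻¹ * (F.C.g * x * F.C.g⁻¹) := by group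
  have h2 := mul_mem (mul_mem (inv_mem F.hg) h1) F.hg
  rwa [show F.C.g⁻¹ * (F.C.g * x * F.C.g⁻¹) * F.C.g = x by group] at h2

theorem card_off (a b : Fin 3) (ha : a ≠ 0) (hb : b ≠ 0) :
    Nat.card (centralizer ({F.C.α (dd a b)} : Set G)) = 18 := by
  obtain ⟨m, hm⟩ : ∃ m : LK, m * (mZ * mZ') * m⁻¹ = dd a b := by
    rcases fin3_pairs a b ha hb with h | h | h | h <;>
      obtain ⟨h, h'⟩ := h <;> subst h <;> subst h'
    · exact ⟨1, by decide +kernel⟩
    · exact ⟨mA', by decide +kernel⟩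
    · exact ⟨mA, by decide +kernel⟩
    · exact ⟨mA * mA', by decide +kernel⟩
  rw [← hm, map_mul, map_mul F.C.α m, map_inv, card_centralizer_conj]
  exact F.C.card_y

theorem cent_y {x : G} (h : x * F.C.α (mZ * mZ') = F.C.α (mZ * mZ') * x) : x ∈ F.H := by
  obtain ⟨a, b, hab⟩ := F.C.cent_y x h 1 0
  rw [show dd 1 0 = mZ by decide +kernel] at hab
  have hne : ¬ (a ≠ 0 ∧ b ≠ 0) := by
    rintro ⟨ha, hb⟩
    have h1 := F.card_off a b ha hb
    rw [← hab, card_centralizer_conj, F.C.card_z] at h1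
    omega
  by_cases hb : b = 0
  · subst hb
    have ha : a ≠ 0 := fun e => by
      rw [e, show dd 0 0 = 1 by decide +kernel, map_one, conj_eq_one_iff] at hab
      exact F.C.z_ne_one hab
    obtain ⟨m, rfl⟩ : ∃ m, F.C.α m = x := by
      refine F.C.mem_range_of_normalize ?_
      rcases fin3_ne a ha with rfl | rfl
      · exact Or.inl (by rw [hab, show dd 1 0 = mZ by decide +kernel])
      · exact Or.inr (by rw [hab, show dd (-1) 0 = mZ⁻¹ by decide +kernel, map_inv])
    exact F.α_mem m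
  · have ha : a = 0 := by by_contra ha; exact hne ⟨ha, hb⟩
    subst ha
    obtain ⟨m, hm⟩ : ∃ m, F.C.α m = F.C.g * x := by
      refine F.C.mem_range_of_normalize ?_
      rw [show F.C.g * x * F.C.α mZ * (F.C.g * x)⁻¹ =
        F.C.g * (x * F.C.α mZ * x⁻¹) * F.C.g⁻¹ by group, hab]
      rcases fin3_ne b hb with rfl | rfl
      · exact Or.inl (by rw [show dd 0 1 = mZ' by decide +kernel, F.C.gz'])
      · refine Or.inr ?_
        rw [show dd 0 (-1) = mZ'⁻¹ by decide +kernel, map_inv, ← conj_inv, F.C.gz']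
    have h2 := mul_mem (inv_mem F.hg) (F.α_mem m)
    rwa [hm, inv_mul_cancel_left] at h2

theorem conj_comm {p x : G} (k : G) (h : x * p = p * x) :
    k * x * k⁻¹ * (k * p * k⁻¹) = k * p * k⁻¹ * (k * x * k⁻¹) :=
  ((show Commute x p from h).map (MulAut.conj k).toMonoidHom).eq

theorem mem_of_conj {k : A8} {x : G} (h : F.φ k * x * (F.φ k)⁻¹ ∈ F.H) : x ∈ F.H := by
  have h2 := mul_mem (mul_mem (inv_mem (⟨k, rfl⟩ : F.φ k ∈ F.H)) h) ⟨k, rfl⟩
  rwa [show (F.φ k)⁻¹ * (F.φ k * x * (F.φ k)⁻¹) * F.φ k = x by group] at h2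

theorem map_conj (k p : A8) : F.φ k * F.φ p * (F.φ k)⁻¹ = F.φ (k * p * k⁻¹) := by simp

/-- Centralizers of elements of order three. -/
theorem cent_three (p : A8) (hp : p ^ 3 = 1) (hp1 : p ≠ 1) {x : G}
    (hx : x * F.φ p = F.φ p * x) : x ∈ F.H := by
  rcases three_class p hp hp1 with ⟨k, hk⟩ | ⟨k, hk⟩
  · refine F.mem_of_conj (k := k) (F.cent_z ?_)
    rw [← F.hall, ← hk, ← F.map_conj]
    exact conj_comm _ hx
  · refine F.mem_of_conj (k := k) (F.cent_y ?_)
    rw [← F.hall, ← hk, ← F.map_conj]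
    exact conj_comm _ hx

theorem cent_V0 {x : G} (hx : x ∈ F.C.CV) : x ∈ F.H := by
  obtain ⟨Q, -, h3, hD, -, hdec⟩ := F.C.CV_complement
  have hQ : Q ≤ F.H :=
    F.C.signalizer Q F.H h3 hD (fun r _ h => F.cent_z h) fun r _ h => F.cent_z' h
  obtain ⟨q, hq, k, rfl⟩ := hdec x hx
  exact mul_mem (hQ hq) (zpow_mem (F.α_mem mZ) k)

theorem cent_V {x : G} (h1 : x * F.φ aU = F.φ aU * x) (h2 : x * F.φ aV = F.φ aV * x) :
    x ∈ F.H := by
  refine F.mem_of_conj (k := emb mP) (F.cent_V0 ?_)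
  rw [F.C.mem_CV]
  refine ⟨?_, ?_⟩
  · rw [← F.hall mV, show emb mV = emb mP * aV * (emb mP)⁻¹ by decide +kernel, ← F.map_conj]
    exact conj_comm _ h2
  · rw [← F.hall mW, show emb mW = emb mP * (aU * aV) * (emb mP)⁻¹ by decide +kernel, ← F.map_conj]
    refine conj_comm _ ?_
    rw [map_mul]
    exact (Commute.mul_right (h1 : Commute x _) h2).eq

/-- Conjugate to `φ aU`. -/
def IsU (x : G) : Prop := ∃ h : G, h * F.φ aU * h⁻¹ = x

theorem isU_conj {x : G} (hx : F.IsU x) (k : G) : F.IsU (k * x * k⁻¹) := by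
  obtain ⟨h, rfl⟩ := hx
  exact ⟨k * h, by group⟩

theorem isU_of_conj {x k : G} (hx : F.IsU (k * x * k⁻¹)) : F.IsU x := by
  have := F.isU_conj hx k⁻¹
  rwa [show k⁻¹ * (k * x * k⁻¹) * k⁻¹⁻¹ = x by group] at this

theorem isU_of_fixed (p : A8) (hp : p * p = 1) (hp1 : p ≠ 1)
    (hf : ∃ i, (p : Perm (Fin 8)) i = i) : F.IsU (F.φ p) := by
  rcases invol_class p hp hp1 with ⟨-, k, hk⟩ | ⟨hno, -⟩
  · exact ⟨(F.φ k)⁻¹, by rw [← hk, ← F.map_conj]; group⟩
  · obtain ⟨i, hi⟩ := hf; exact absurd hi (hno i)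

theorem not_isU_J : ¬ F.IsU (F.φ aJ) := by
  rintro ⟨h, hh⟩
  rw [show aU = emb mA by decide +kernel, F.hall] at hh
  refine F.C.not_conj_of_off (mZ * mZ') (by decide +kernel) (by decide +kernel) F.C.card_y ?_ hh
  rw [← F.hall, ← map_mul, ← map_mul]
  exact congrArg F.φ (by decide +kernel)

theorem fixed_of_isU (p : A8) (h : F.IsU (F.φ p)) :
    p * p = 1 ∧ p ≠ 1 ∧ ∃ i, (p : Perm (Fin 8)) i = i := by
  obtain ⟨k, hk⟩ := h
  have h2 : p * p = 1 := F.inj (by
    rw [map_mul, map_one, ← hk, show k * F.φ aU * k⁻¹ * (k * F.φ aU * k⁻¹) =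
      k * (F.φ aU * F.φ aU) * k⁻¹ by group, ← map_mul, show aU * aU = 1 by decide +kernel, map_one,
      mul_one, mul_inv_cancel])
  have h1 : p ≠ 1 := fun e => by
    rw [e, map_one, conj_eq_one_iff, ← map_one F.φ] at hk
    exact absurd (F.inj hk) (by decide +kernel)
  refine ⟨h2, h1, ?_⟩
  rcases invol_class p h2 h1 with ⟨h, -⟩ | ⟨-, c, hc⟩
  · exact h
  · exfalso
    apply F.not_isU_J
    rw [← hc, ← F.map_conj]
    exact F.isU_conj ⟨k, hk⟩ _

theorem isU_aV : F.IsU (F.φ aV) :=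
  F.isU_of_fixed _ (by decide +kernel) (by decide +kernel) ⟨0, by decide +kernel⟩

theorem isU_aUV : F.IsU (F.φ (aU * aV)) :=
  F.isU_of_fixed _ (by decide +kernel) (by decide +kernel) ⟨0, by decide +kernel⟩

theorem isU_aU : F.IsU (F.φ aU) := ⟨1, by simp⟩

/-- The centralizer of the second four-group. -/
def CE : Subgroup G := centralizer ({F.φ aU, F.φ aE} : Set G)

theorem mem_CE {x : G} :
    x ∈ F.CE ↔ x * F.φ aU = F.φ aU * x ∧ x * F.φ aE = F.φ aE * x := by
  constructor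
  · intro h
    exact ⟨(mem_centralizer_iff.1 h _ (Or.inl rfl)).symm,
      (mem_centralizer_iff.1 h _ (Or.inr rfl)).symm⟩
  · rintro ⟨h1, h2⟩
    rw [CE, mem_centralizer_iff]
    rintro w (rfl | rfl)
    · exact h1.symm
    · exact h2.symm

theorem CE_inter {x : A8} (h : F.φ x ∈ F.CE) :
    ∃ a b c d : Fin 2, (x : Perm (Fin 8)) = et a b c d := by
  rw [F.mem_CE, ← map_mul, ← map_mul, ← map_mul, ← map_mul] at h
  exact cent_pair x (F.inj h.1) (F.inj h.2)

theorem normal_CE (t : A8) (hU : t⁻¹ * aU * t ∈ [aU, aE, aU * aE])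
    (hE : t⁻¹ * aE * t ∈ [aU, aE, aU * aE]) (hU' : t * aU * t⁻¹ ∈ [aU, aE, aU * aE])
    (hE' : t * aE * t⁻¹ ∈ [aU, aE, aU * aE]) : F.φ t ∈ normalizer (F.CE : Set G) := by
  have key : ∀ s : A8, s⁻¹ * aU * s ∈ [aU, aE, aU * aE] → s⁻¹ * aE * s ∈ [aU, aE, aU * aE] →
      ∀ x ∈ F.CE, F.φ s * x * (F.φ s)⁻¹ ∈ F.CE := by
    intro s h1 h2 x hx
    obtain ⟨c1, c2⟩ := F.mem_CE.1 hx
    have aux : ∀ w : A8, s⁻¹ * w * s ∈ [aU, aE, aU * aE] →
        F.φ s * x * (F.φ s)⁻¹ * F.φ w = F.φ w * (F.φ s * x * (F.φ s)⁻¹) := by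
      intro w hw
      have hc : x * F.φ (s⁻¹ * w * s) = F.φ (s⁻¹ * w * s) * x := by
        simp only [List.mem_cons, List.not_mem_nil, or_false] at hw
        rcases hw with e | e | e <;> rw [e]
        · exact c1
        · exact c2
        · rw [map_mul]; exact (Commute.mul_right (c1 : Commute x _) c2).eq
      have e : F.φ w = F.φ s * F.φ (s⁻¹ * w * s) * (F.φ s)⁻¹ := by
        rw [F.map_conj]; congr 1; group
      rw [e]; exact conj_comm _ hc
    exact F.mem_CE.2 ⟨aux _ h1, aux _ h2⟩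
  rw [mem_normalizer_iff]
  refine fun x => ⟨key t hU hE x, fun hx => ?_⟩
  have := key t⁻¹ (by rwa [inv_inv]) (by rwa [inv_inv]) _ hx
  rwa [map_inv, inv_inv,
    show (F.φ t)⁻¹ * (F.φ t * x * (F.φ t)⁻¹) * F.φ t = x by group] at this

/-- The two kinds of four-groups are not conjugate. -/
theorem E_ne_V (h : G) (hU : h * F.φ aU * h⁻¹ = F.φ aU) (hV : h * F.φ aV * h⁻¹ = F.φ aE) :
    False := by
  haveI : Fact (Nat.Prime 3) := ⟨Nat.prime_three⟩
  set r := h * F.C.α mZ * h⁻¹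
  have hr : r ∈ F.CE := by
    rw [F.mem_CE, ← hU, ← hV]
    refine ⟨?_, ?_⟩ <;> simp only [r] <;> rw [← F.hall] <;> refine conj_comm _ ?_ <;>
      rw [← map_mul, ← map_mul] <;> exact congrArg F.φ (by decide +kernel)
  have hr3 : orderOf r = 3 := by
    rw [show r = MulAut.conj h (F.C.α mZ) from rfl, MulEquiv.orderOf_eq, F.C.z_order]
  have hρn : F.φ aRho ∈ normalizer (F.CE : Set G) :=
    F.normal_CE _ (by decide +kernel) (by decide +kernel) (by decide +kernel) (by decide +kernel)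
  have hρ3 : orderOf (F.φ aRho) = 3 := by
    rw [orderOf_injective F.φ F.inj]
    exact orderOf_eq_prime (by decide +kernel) (by decide +kernel)
  have hρ : F.φ aRho ∉ F.CE := by
    intro h1
    rw [F.mem_CE, ← map_mul, ← map_mul] at h1
    exact absurd (F.inj h1.1) (by decide +kernel)
  set K := F.CE ⊔ zpowers (F.φ aRho)
  have hdisj : ∀ x ∈ zpowers (F.φ aRho), x ∈ F.CE → x = 1 := by
    intro x hx hxC
    rcases zpowers_three (by rw [← hρ3, pow_orderOf_eq_one]) hx with e | e | e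
    · exact e
    · exact absurd (e ▸ hxC) hρ
    · exact absurd (by simpa [e] using inv_mem hxC) hρ
  have hcard : 9 ∣ Nat.card K := by
    have hinj : Function.Injective
        (fun q : F.CE × zpowers (F.φ aRho) => ((q.1 : G) * (q.2 : G))) := by
      rintro ⟨a, b⟩ ⟨a', b'⟩ e
      have e' : (a' : G)⁻¹ * a = (b' : G) * (b : G)⁻¹ := by
        calc (a' : G)⁻¹ * a = (a' : G)⁻¹ * ((a : G) * b) * (b : G)⁻¹ := by group
          _ = (a' : G)⁻¹ * ((a' : G) * b') * (b : G)⁻¹ := by rw [show (a : G) * b = a' * b' from e]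
          _ = (b' : G) * (b : G)⁻¹ := by group
      have h1 := hdisj _ (mul_mem b'.2 (inv_mem b.2)) (e' ▸ mul_mem (inv_mem a'.2) a.2)
      have hb : (b' : G) = b := mul_inv_eq_one.1 h1
      have ha : (a : G) = a' := by
        have e2 : (a : G) * b = a' * b' := e
        rw [hb] at e2; exact mul_right_cancel e2
      exact Prod.ext (Subtype.ext ha) (Subtype.ext hb.symm)
    have himg : ∀ q : F.CE × zpowers (F.φ aRho), (q.1 : G) * (q.2 : G) ∈ K := fun q =>
      mul_mem (mem_sup_left q.1.2) (mem_sup_right q.2.2)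
    have hb : Function.Bijective
        (fun q : F.CE × zpowers (F.φ aRho) => (⟨_, himg q⟩ : K)) := by
      refine ⟨fun q q' e => hinj (congrArg Subtype.val e), ?_⟩
      rintro ⟨x, hx⟩
      obtain ⟨k, hk, i, rfl⟩ := mem_sup_zpowers hρn hx
      exact ⟨(⟨k, hk⟩, ⟨_, zpow_mem (mem_zpowers _) i⟩), rfl⟩
    rw [← Nat.card_congr (Equiv.ofBijective _ hb), Nat.card_prod, Nat.card_zpowers, hρ3,
      show (9 : ℕ) = 3 * 3 from rfl]
    exact Nat.mul_dvd_mul_right (hr3 ▸ Subgroup.orderOf_dvd_natCard F.CE hr) 3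
  have hρK : F.φ aRho ∈ K := mem_sup_right (mem_zpowers _)
  have hX : IsPGroup 3 (zpowers (⟨_, hρK⟩ : K)) := IsPGroup.of_card (n := 1) (by
    rw [Nat.card_zpowers, Subgroup.orderOf_mk, hρ3, pow_one])
  obtain ⟨P, hP⟩ := hX.exists_le_sylow
  set R := (P : Subgroup K).map K.subtype
  have hRp : IsPGroup 3 R := P.2.map _
  have hR9 : Nat.card R = 9 := by
    refine Nat.dvd_antisymm (F.C.sylow_bound R hRp) ?_
    rw [Subgroup.card_map_of_injective (Subgroup.subtype_injective _), Sylow.card_eq_multiplicity]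
    exact (Nat.prime_three.pow_dvd_iff_le_factorization Nat.card_pos.ne').1
      (show 3 ^ 2 ∣ Nat.card K by simpa using hcard) |> pow_dvd_pow 3
  have hρR : F.φ aRho ∈ R := ⟨⟨_, hρK⟩, hP (mem_zpowers _), rfl⟩
  obtain ⟨p, hpR, hp⟩ : ∃ p ∈ R, p ∉ zpowers (F.φ aRho) := by
    by_contra! hc
    have := card_le_of_le (show R ≤ zpowers (F.φ aRho) from hc)
    rw [hR9, Nat.card_zpowers, hρ3] at this
    omega
  obtain ⟨k, hk, i, rfl⟩ := mem_sup_zpowers hρn ((map_subtype_le _) hpR : p ∈ K)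
  have hkR : k ∈ R := by
    have := mul_mem hpR (inv_mem (zpow_mem hρR i))
    rwa [mul_inv_cancel_right] at this
  have hcomm : k * F.φ aRho = F.φ aRho * k :=
    congrArg Subtype.val ((IsPGroup.commGroupOfCardEqPrimeSq (p := 3) (by rw [hR9]; norm_num)).mul_comm
      (⟨k, hkR⟩ : R) ⟨_, hρR⟩)
  obtain ⟨x, hx⟩ := F.cent_three aRho (by decide +kernel) (by decide +kernel) hcomm
  have hx9 : x ^ 9 = 1 := F.inj (by
    rw [map_pow, map_one, hx]
    exact orderOf_dvd_iff_pow_eq_one.1 (hR9 ▸ Subgroup.orderOf_dvd_natCard R hkR))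
  obtain ⟨a, b, c, d, he⟩ := F.CE_inter (x := x) (hx.symm ▸ hk)
  have hx1 : x = 1 := Subtype.ext (by
    rw [he]
    exact et_nine a b c d (by rw [← he]; exact congrArg Subtype.val hx9))
  apply hp
  rw [← hx, hx1, map_one, one_mul]
  exact zpow_mem (mem_zpowers _) i

theorem preimage_pair (p q : A8) (hp : F.IsU (F.φ p)) (hq : F.IsU (F.φ q))
    (hpq : F.IsU (F.φ (p * q))) (hc : p * q = q * p) (hne : p ≠ q) :
    ∃ k : A8, k * p * k⁻¹ = aU ∧ (k * q * k⁻¹ = aV ∨ k * q * k⁻¹ = aE) := by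
  obtain ⟨p1, p2, p3⟩ := F.fixed_of_isU p hp
  obtain ⟨q1, q2, q3⟩ := F.fixed_of_isU q hq
  exact pair_class p q p1 p2 q1 q2 hc hne p3 q3 (F.fixed_of_isU _ hpq).2.2

theorem conj_pair {h : G} {p q : A8} (hp : F.IsU (F.φ p)) (hq : F.IsU (F.φ q))
    (hpq : F.IsU (F.φ (p * q))) (hc : p * q = q * p) (hne : p ≠ q)
    (h1 : h * F.φ p * h⁻¹ ∈ F.H) (h2 : h * F.φ q * h⁻¹ ∈ F.H) :
    ∃ k : A8, F.φ k * h * F.φ p * (F.φ k * h)⁻¹ = F.φ aU ∧
      (F.φ k * h * F.φ q * (F.φ k * h)⁻¹ = F.φ aV ∨ F.φ k * h * F.φ q * (F.φ k * h)⁻¹ = F.φ aE) := by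
  obtain ⟨p', hp'⟩ := h1
  obtain ⟨q', hq'⟩ := h2
  have hmul : F.φ (p' * q') = h * F.φ (p * q) * h⁻¹ := by
    rw [map_mul, hp', hq', map_mul]; group
  have hc' : p' * q' = q' * p' := F.inj (by
    rw [map_mul, map_mul, hp', hq']
    exact conj_comm _ (by rw [← map_mul, hc, map_mul]))
  have hne' : p' ≠ q' := fun e => by
    have e' : h * F.φ p * h⁻¹ = h * F.φ q * h⁻¹ := by rw [← hp', ← hq', e]
    exact hne (F.inj (mul_left_cancel (mul_right_cancel e')))
  obtain ⟨k, k1, k2⟩ := F.preimage_pair p' q' (hp' ▸ F.isU_conj hp h) (hq' ▸ F.isU_conj hq h)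
    (hmul ▸ F.isU_conj hpq h) hc' hne'
  refine ⟨k, ?_, ?_⟩
  · rw [← k1, ← F.map_conj, hp']; group
  · rcases k2 with k2 | k2
    · exact Or.inl (by rw [← k2, ← F.map_conj, hq']; group)
    · exact Or.inr (by rw [← k2, ← F.map_conj, hq']; group)

theorem comm_of_fix {h x : G} (e : h * x * h⁻¹ = x) : h * x = x * h :=
  mul_inv_eq_iff_eq_mul.1 e

theorem key_V {h : G} (h1 : h * F.φ aU * h⁻¹ ∈ F.H) (h2 : h * F.φ aV * h⁻¹ ∈ F.H) : h ∈ F.H := by
  obtain ⟨k, k1, k2 | k2⟩ := F.conj_pair F.isU_aU F.isU_aV F.isU_aUV (by decide +kernel)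
    (by decide +kernel) h1 h2
  · have h3 := F.cent_V (comm_of_fix k1) (comm_of_fix k2)
    have := mul_mem (inv_mem (⟨k, rfl⟩ : F.φ k ∈ F.H)) h3
    rwa [inv_mul_cancel_left] at this
  · exact (F.E_ne_V _ k1 k2).elim

/-- `C(E)` lies in the subgroup. -/
theorem cent_E {x : G} (hx1 : x * F.φ aU = F.φ aU * x) (hx2 : x * F.φ aE = F.φ aE * x) :
    x ∈ F.H := by
  classical
  haveI : Fact (Nat.Prime 2) := ⟨Nat.prime_two⟩
  set v := F.φ aV
  have hvn : v ∈ normalizer (F.CE : Set G) :=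
    F.normal_CE _ (by decide +kernel) (by decide +kernel) (by decide +kernel) (by decide +kernel)
  have hven : F.φ aVe ∈ normalizer (F.CE : Set G) :=
    F.normal_CE _ (by decide +kernel) (by decide +kernel) (by decide +kernel) (by decide +kernel)
  let TH : Subgroup G := F.CE ⊓ F.H
  have hTH2 : ∀ y ∈ TH, y * y = 1 := by
    rintro y ⟨hy, z, rfl⟩
    obtain ⟨a, b, c, d, he⟩ := F.CE_inter hy
    rw [← map_mul, show z * z = 1 from Subtype.ext (by
      show (z : Perm (Fin 8)) * z = 1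
      rw [he]; exact et_square a b c d), map_one]
  have hTHp : IsPGroup 2 TH := fun y => ⟨1, Subtype.ext (by
    show (y : G) ^ (2 ^ 1) = 1
    rw [pow_one, pow_two]; exact hTH2 _ y.2)⟩
  set K := F.CE ⊔ zpowers v
  let S1 : Subgroup G := K ⊓ F.H
  have hv2 : v * v = 1 := by rw [← map_mul, show aV * aV = 1 by decide +kernel, map_one]
  have hvH : v ∈ F.H := ⟨aV, rfl⟩
  have hS1 : S1 ≤ TH ⊔ zpowers v := by
    rintro y ⟨hy, hyH⟩
    obtain ⟨k, hk, i, rfl⟩ := mem_sup_zpowers hvn hy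
    refine mul_mem (mem_sup_left ⟨hk, ?_⟩) (mem_sup_right (zpow_mem (mem_zpowers v) i))
    have hyH' : k * v ^ i ∈ F.H := hyH
    have := mul_mem hyH' (inv_mem (zpow_mem hvH i))
    rwa [mul_inv_cancel_right] at this
  have hvp : IsPGroup 2 (zpowers v) := IsPGroup.of_card (n := 1) (by
    rw [Nat.card_zpowers, pow_one]
    refine orderOf_eq_prime (by rw [pow_two]; exact hv2) fun e => ?_
    rw [← map_one F.φ] at e
    exact absurd (F.inj e) (by decide +kernel))
  have hvTH : zpowers v ≤ normalizer (TH : Set G) := by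
    rw [zpowers_le, mem_normalizer_iff]
    intro y
    show y ∈ F.CE ∧ y ∈ F.H ↔ v * y * v⁻¹ ∈ F.CE ∧ v * y * v⁻¹ ∈ F.H
    refine and_congr ((mem_normalizer_iff.1 hvn) y) ⟨fun h => mul_mem (mul_mem hvH h) (inv_mem hvH),
      fun h => ?_⟩
    have := mul_mem (mul_mem (inv_mem hvH) h) hvH
    rwa [show v⁻¹ * (v * y * v⁻¹) * v = y by group] at this
  have hS1p : IsPGroup 2 S1 :=
    (hTHp.to_sup_of_normal_left' hvp hvTH).to_le hS1
  obtain ⟨P, hP⟩ := (hS1p.comap_subtype (K := K)).exists_le_sylow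
  have hPS : (P : Subgroup K).map K.subtype = S1 := by
    set R := (P : Subgroup K).map K.subtype
    have hSR : S1 ≤ R := fun y hy => ⟨⟨y, hy.1⟩, hP (mem_subgroupOf.2 hy), rfl⟩
    by_contra hne
    have hlt : S1.subgroupOf R < ⊤ := lt_top_iff_ne_top.2 fun h =>
      hne (le_antisymm (subgroupOf_eq_top.1 h) hSR)
    haveI : Group.IsNilpotent R := (P.2.map K.subtype).isNilpotent
    obtain ⟨n, hnN, hnS⟩ := SetLike.exists_of_lt (Group.normalizerCondition_of_isNilpotent _ hlt)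
    apply hnS
    have hcl : ∀ y : G, y ∈ S1 → (n : G) * y * (n : G)⁻¹ ∈ F.H := fun y hy => by
      have := (mem_normalizer_iff.1 hnN ⟨y, hSR hy⟩).1 (mem_subgroupOf.2 hy)
      exact (mem_subgroupOf.1 this).2
    refine mem_subgroupOf.2 ⟨map_subtype_le _ n.2, F.key_V (hcl _ ⟨?_, aU, rfl⟩)
      (hcl _ ⟨mem_sup_right (mem_zpowers v), hvH⟩)⟩
    refine mem_sup_left (F.mem_CE.2 ⟨rfl, ?_⟩)
    rw [← map_mul, ← map_mul]; exact congrArg F.φ (by decide +kernel)
  -- the Sylow subgroup of `CE`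
  obtain ⟨Q, hQ⟩ := (hTHp.comap_subtype (K := F.CE)).exists_le_sylow
  have hQT : (Q : Subgroup F.CE) = TH.subgroupOf F.CE := by
    symm
    refine eq_of_le_of_card_ge hQ ?_
    set R := ((Q : Subgroup F.CE).map F.CE.subtype)
    have hRK : R ≤ K := (map_subtype_le _).trans le_sup_left
    obtain ⟨P', hP'⟩ := ((Q.2.map F.CE.subtype).comap_subtype (K := K)).exists_le_sylow
    obtain ⟨c, hc⟩ := MulAction.exists_smul_eq K P' P
    have hmap : R.map (MulAut.conj (c : G)).toMonoidHom ≤ TH := by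
      rintro _ ⟨y, hy, rfl⟩
      have h1 : c * ⟨y, hRK hy⟩ * c⁻¹ ∈ (P : Subgroup K) := by
        rw [← hc, Sylow.coe_subgroup_smul]
        exact ⟨⟨y, hRK hy⟩, hP' (mem_subgroupOf.2 hy), by simp⟩
      have h2 : (c : G) * y * (c : G)⁻¹ ∈ S1 := hPS ▸ ⟨_, h1, rfl⟩
      have hcn : (c : G) ∈ normalizer (F.CE : Set G) :=
        (sup_le le_normalizer (zpowers_le.2 hvn) : K ≤ normalizer (F.CE : Set G)) c.2
      exact ⟨(mem_normalizer_iff.1 hcn y).1 (map_subtype_le _ hy), h2.2⟩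
    calc Nat.card (Q : Subgroup F.CE) = Nat.card R :=
          (Subgroup.card_map_of_injective (Subgroup.subtype_injective _)).symm
      _ = Nat.card (R.map (MulAut.conj (c : G)).toMonoidHom) :=
          (Subgroup.card_map_of_injective (MulEquiv.injective _)).symm
      _ ≤ Nat.card TH := card_le_of_le hmap
      _ = Nat.card (TH.subgroupOf F.CE) :=
          (Nat.card_congr (subgroupOfEquivOfLe (inf_le_left : TH ≤ F.CE)).toEquiv).symm
  have hKK : F.φ aK ∈ F.CE := by
    rw [F.mem_CE, ← map_mul, ← map_mul, ← map_mul, ← map_mul]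
    exact ⟨congrArg F.φ (by decide +kernel), congrArg F.φ (by decide +kernel)⟩
  have hNC : normalizer ((Q : Subgroup F.CE) : Set F.CE) ≤ centralizer (Q : Set F.CE) := by
    intro n hn
    rw [hQT] at hn
    obtain ⟨hnU, hnE⟩ := F.mem_CE.1 n.2
    have hnKmem := (mem_normalizer_iff.1 hn ⟨_, hKK⟩).1 (mem_subgroupOf.2 ⟨hKK, aK, rfl⟩)
    obtain ⟨t, ht⟩ := (mem_subgroupOf.1 hnKmem).2
    have ht' : F.φ t = (n : G) * F.φ aK * (n : G)⁻¹ := ht
    obtain ⟨a, b, c, d, he⟩ := F.CE_inter (x := t) (ht' ▸ (mem_subgroupOf.1 hnKmem).1)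
    have ht1 : t ≠ 1 := fun e => by
      rw [e, map_one, eq_comm, conj_eq_one_iff, ← map_one F.φ] at ht'
      exact absurd (F.inj ht') (by decide +kernel)
    have hfree : ∀ i, (t : Perm (Fin 8)) i ≠ i := by
      intro i hi
      have hU : F.IsU (F.φ aK) := F.isU_of_conj (k := (n : G))
        (ht' ▸ F.isU_of_fixed t (Subtype.ext (by
          show (t : Perm (Fin 8)) * t = 1
          rw [he]; exact et_square a b c d)) ht1 ⟨i, hi⟩)
      obtain ⟨-, -, j, hj⟩ := F.fixed_of_isU aK hU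
      revert hj; revert j; decide +kernel
    have htK : t = aK := Subtype.ext (he.trans (et_free a b c d (by rw [← he]; exact hfree)))
    rw [htK] at ht'
    have hnK : Commute (n : G) (F.φ aK) := comm_of_fix ht'.symm
    rw [mem_centralizer_iff]
    intro w hw
    change w ∈ (Q : Subgroup F.CE) at hw
    rw [hQT] at hw
    obtain ⟨hwC, z, hz⟩ := mem_subgroupOf.1 hw
    obtain ⟨a, b, c, d, he⟩ := F.CE_inter (x := z) (hz.symm ▸ hwC)
    obtain ⟨i, j, l, hgen⟩ := et_gen a b c d (he ▸ z.2)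
    have hz' : z = aU ^ i.val * aE ^ j.val * aK ^ l.val := Subtype.ext (by
      rw [he, hgen]; simp [aU, aE, aK])
    apply Subtype.ext
    show (w : G) * n = n * w
    rw [← hz, hz', map_mul, map_mul, map_pow, map_pow, map_pow]
    exact ((((show Commute (n : G) (F.φ aU) from hnU).pow_right _).mul_right
      ((show Commute (n : G) (F.φ aE) from hnE).pow_right _)).mul_right
      (hnK.pow_right _)).eq.symm
  set f := MonoidHom.transferSylow Q hNC
  have hc := MonoidHom.ker_transferSylow_isComplement' Q hNC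
  have hnd := MonoidHom.not_dvd_card_ker_transferSylow Q hNC
  let O := f.ker.map F.CE.subtype
  have hO2 : ¬ 2 ∣ Nat.card O := by
    rwa [Subgroup.card_map_of_injective (Subgroup.subtype_injective _)]
  have hmem : ∀ y ∈ F.CE, ¬ 2 ∣ orderOf y → y ∈ O := by
    intro y hy ho
    refine ⟨⟨y, hy⟩, ?_, rfl⟩
    rw [SetLike.mem_coe, MonoidHom.mem_ker, ← orderOf_eq_one_iff]
    obtain ⟨m, hm⟩ := IsPGroup.iff_orderOf.1 Q.2 (f ⟨y, hy⟩)
    have h1 : orderOf (f ⟨y, hy⟩) ∣ orderOf y := by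
      have := orderOf_map_dvd f ⟨y, hy⟩
      rwa [← Subgroup.orderOf_coe (⟨y, hy⟩ : F.CE)] at this
    rw [hm] at h1 ⊢
    rcases Nat.eq_zero_or_pos m with rfl | h0
    · simp
    · exact absurd ((dvd_pow_self 2 (by omega)).trans h1) ho
  have honly : ∀ y ∈ O, y ∈ F.H → y = 1 := by
    intro y hy hyH
    have h2 : orderOf y ∣ 2 := orderOf_dvd_of_pow_eq_one (by
      rw [pow_two]; exact hTH2 y ⟨map_subtype_le _ hy, hyH⟩)
    rcases (Nat.dvd_prime Nat.prime_two).1 h2 with h | h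
    · exact orderOf_eq_one_iff.1 h
    · exact absurd (h ▸ Subgroup.orderOf_dvd_natCard O hy) hO2
  have hinv : ∀ t : A8, t * t = 1 → F.φ t ∈ normalizer (F.CE : Set G) →
      (∀ y ∈ O, y * F.φ t = F.φ t * y → y ∈ F.H) → ∀ y ∈ O, F.φ t * y * F.φ t = y⁻¹ := by
    intro t ht2 htn htc
    have ht : F.φ t * F.φ t = 1 := by rw [← map_mul, ht2, map_one]
    have hti : (F.φ t)⁻¹ = F.φ t := inv_eq_of_mul_eq_one_right ht
    refine inverts_of_fixed_trivial O _ ht (fun y hy => ?_) fun y hy e => honly y hy (htc y hy ?_)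
    · have h1 := (mem_normalizer_iff.1 htn y).1 (map_subtype_le _ hy)
      rw [hti] at h1
      refine hmem _ h1 ?_
      rw [show F.φ t * y * F.φ t = MulAut.conj (F.φ t) y by simp [hti], MulEquiv.orderOf_eq]
      exact fun h => hO2 (h.trans (Subgroup.orderOf_dvd_natCard O hy))
    · calc y * F.φ t = (F.φ t * y * F.φ t) * F.φ t := by rw [e]
        _ = F.φ t * y * (F.φ t * F.φ t) := by group
        _ = F.φ t * y := by rw [ht, mul_one]
  have hv := hinv aV (by decide +kernel) hvn fun y hy h =>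
    F.cent_V (F.mem_CE.1 (map_subtype_le _ hy)).1 h
  have hve := hinv aVe (by decide +kernel) hven fun y hy h => by
    refine F.mem_of_conj (k := aK2) (F.cent_V ?_ ?_)
    · rw [show aU = aK2 * aE * aK2⁻¹ by decide +kernel, ← F.map_conj]
      exact conj_comm _ (F.mem_CE.1 (map_subtype_le _ hy)).2
    · rw [show aV = aK2 * aVe * aK2⁻¹ by decide +kernel, ← F.map_conj]
      exact conj_comm _ h
  have hO1 : ∀ y ∈ O, y = 1 := by
    intro y hy
    refine honly y hy (F.cent_three (aV * aVe) (by decide +kernel) (by decide +kernel) ?_)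
    have e1 := hv y hy
    have e2 := hve y hy
    have hv' : (F.φ aVe) * F.φ aVe = 1 := by
      rw [← map_mul, show aVe * aVe = 1 by decide +kernel, map_one]
    have e3 : F.φ aV * y⁻¹ * F.φ aV = y := by
      have := hv y⁻¹ (inv_mem hy); rwa [inv_inv] at this
    rw [map_mul]
    calc y * (F.φ aV * F.φ aVe)
        = F.φ aV * (F.φ aVe * y * F.φ aVe) * F.φ aV * (F.φ aV * F.φ aVe) := by rw [e2, e3]
      _ = F.φ aV * F.φ aVe * y * (F.φ aVe * (F.φ aV * F.φ aV) * F.φ aVe) := by group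
      _ = F.φ aV * F.φ aVe * y := by rw [hv2, mul_one, hv', mul_one]
  obtain ⟨⟨q, p⟩, hqp⟩ :=
    (Subgroup.isComplement_iff_existsUnique.1 hc ⟨x, F.mem_CE.2 ⟨hx1, hx2⟩⟩).exists
  have hp : (((p : F.CE)) : G) ∈ TH := mem_subgroupOf.1 (SetLike.le_def.1 hQT.le p.2)
  have hq1 : ((q : F.CE) : G) = 1 := hO1 _ ⟨q, q.2, rfl⟩
  have e : ((q : F.CE) : G) * ((p : F.CE) : G) = x := congrArg Subtype.val hqp
  rw [← e, hq1, one_mul]
  exact hp.2

theorem cent_pair' {p q : A8} (hp : F.IsU (F.φ p)) (hq : F.IsU (F.φ q))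
    (hpq : F.IsU (F.φ (p * q))) (hc : p * q = q * p) (hne : p ≠ q) {x : G}
    (h1 : x * F.φ p = F.φ p * x) (h2 : x * F.φ q = F.φ q * x) : x ∈ F.H := by
  obtain ⟨k, k1, k2⟩ := F.preimage_pair p q hp hq hpq hc hne
  refine F.mem_of_conj (k := k) ?_
  have c1 : F.φ k * x * (F.φ k)⁻¹ * F.φ aU = F.φ aU * (F.φ k * x * (F.φ k)⁻¹) := by
    rw [← k1, ← F.map_conj]; exact conj_comm _ h1
  rcases k2 with k2 | k2
  · refine F.cent_V c1 ?_
    rw [← k2, ← F.map_conj]; exact conj_comm _ h2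
  · refine F.cent_E c1 ?_
    rw [← k2, ← F.map_conj]; exact conj_comm _ h2

theorem key {h : G} {p q : A8} (hp : F.IsU (F.φ p)) (hq : F.IsU (F.φ q))
    (hpq : F.IsU (F.φ (p * q))) (hc : p * q = q * p) (hne : p ≠ q)
    (h1 : h * F.φ p * h⁻¹ ∈ F.H) (h2 : h * F.φ q * h⁻¹ ∈ F.H) : h ∈ F.H := by
  obtain ⟨k0, a1, a2⟩ := F.preimage_pair p q hp hq hpq hc hne
  obtain ⟨k, b1, b2⟩ := F.conj_pair hp hq hpq hc hne h1 h2
  set w := F.φ k * h * (F.φ k0)⁻¹
  have hkey : ∀ r s : A8, k0 * r * k0⁻¹ = s →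
      w * F.φ s * w⁻¹ = F.φ k * h * F.φ r * (F.φ k * h)⁻¹ := by
    intro r s e
    rw [← e, ← F.map_conj]; simp only [w]; group
  have wU : w * F.φ aU * w⁻¹ = F.φ aU := (hkey p aU a1).trans b1
  have hw : w ∈ F.H := by
    rcases a2 with a2 | a2 <;> rcases b2 with b2 | b2
    · exact F.cent_V (comm_of_fix wU) (comm_of_fix ((hkey q aV a2).trans b2))
    · exact (F.E_ne_V w wU ((hkey q aV a2).trans b2)).elim
    · refine (F.E_ne_V w⁻¹ ?_ ?_).elim
      · conv_lhs => rw [← wU]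
        group
      · rw [← (hkey q aE a2).trans b2]; group
    · exact F.cent_E (comm_of_fix wU) (comm_of_fix ((hkey q aE a2).trans b2))
  have h3 := mul_mem (mul_mem (inv_mem (⟨k, rfl⟩ : F.φ k ∈ F.H)) hw) (⟨k0, rfl⟩ : F.φ k0 ∈ F.H)
  rwa [show (F.φ k)⁻¹ * w * F.φ k0 = h by simp only [w]; group] at h3

theorem no_psl {N0 : Subgroup (centralizer ({F.φ aJ} : Set G))} [N0.Normal]
    (hN0 : N0 = zpowers (⟨F.φ aJ, mem_centralizer_singleton_iff.2 rfl⟩ :
      centralizer ({F.φ aJ} : Set G)))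
    (e : centralizer ({F.φ aJ} : Set G) ⧸ N0 ≃*
      Matrix.ProjectiveSpecialLinearGroup (Fin 2) (ZMod 7)) : False := by
  have h32 : 32 ∣ Nat.card (centralizer ({F.φ aJ} : Set G)) := by
    rw [← card_closure32, ← Subgroup.card_map_of_injective (f := F.φ) F.inj]
    refine card_dvd_of_le ?_
    rw [MonoidHom.map_closure, closure_le]
    rintro _ ⟨w, hw, rfl⟩
    exact mem_centralizer_singleton_iff.2 (by rw [← map_mul, ← map_mul, gens32_comm w hw])
  have hj : orderOf (⟨F.φ aJ, mem_centralizer_singleton_iff.2 rfl⟩ :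
      centralizer ({F.φ aJ} : Set G)) = 2 := by
    rw [Subgroup.orderOf_mk, orderOf_injective F.φ F.inj]
    exact orderOf_eq_prime (by decide +kernel) (by decide +kernel)
  rw [Subgroup.card_eq_card_quotient_mul_card_subgroup N0, Nat.card_congr e.toEquiv,
    card_psl_two_seven, hN0, Nat.card_zpowers, hj] at h32
  norm_num at h32

/-- The centralizer of a fixed-point-free involution. -/
theorem cent_J {x : G} (hx : x * F.φ aJ = F.φ aJ * x) : x ∈ F.H := by
  classical
  haveI : Fact (Nat.Prime 2) := ⟨Nat.prime_two⟩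
  haveI : Fact (Nat.Prime 3) := ⟨Nat.prime_three⟩
  let K := centralizer ({F.φ aJ} : Set G)
  have hmem : ∀ w : A8, w * aJ = aJ * w → F.φ w ∈ K := fun w hw =>
    mem_centralizer_singleton_iff.2 (by rw [← map_mul, hw, map_mul])
  let j : K := ⟨F.φ aJ, hmem _ rfl⟩
  let N0 : Subgroup K := zpowers j
  have hjc : ∀ w : K, w * j = j * w := fun w =>
    Subtype.ext (mem_centralizer_singleton_iff.1 w.2)
  haveI hN0 : N0.Normal := ⟨fun n hn w => by
    obtain ⟨i, rfl⟩ := mem_zpowers_iff.1 hn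
    rw [((show Commute w j from hjc w).zpow_right i).eq, mul_inv_cancel_right]
    exact zpow_mem (mem_zpowers j) i⟩
  have hj2 : orderOf j = 2 := by
    rw [← Subgroup.orderOf_coe, show ((j : K) : G) = F.φ aJ from rfl, orderOf_injective F.φ F.inj]
    exact orderOf_eq_prime (by decide +kernel) (by decide +kernel)
  have hN0c : ∀ n ∈ N0, n = 1 ∨ n = j := by
    intro n hn
    obtain ⟨i, rfl⟩ := mem_zpowers_iff.1 hn
    have h2 : j ^ (2 : ℤ) = 1 := by rw [zpow_ofNat, ← hj2, pow_orderOf_eq_one]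
    rcases Int.even_or_odd' i with ⟨l, rfl | rfl⟩
    · exact Or.inl (by rw [zpow_mul, h2, one_zpow])
    · exact Or.inr (by rw [zpow_add, zpow_mul, h2, one_zpow, one_mul, zpow_one])
  let π := QuotientGroup.mk' N0
  let kY : K := ⟨F.φ aY, hmem _ (by decide +kernel)⟩
  let kB : K := ⟨F.φ aB, hmem _ (by decide +kernel)⟩
  let kT : K := ⟨F.φ aT, hmem _ (by decide +kernel)⟩
  have hY3 : kY ^ 3 = 1 := Subtype.ext (by
    rw [SubmonoidClass.coe_pow]
    show (F.φ aY) ^ 3 = 1
    rw [← map_pow, show aY ^ 3 = 1 by decide +kernel, map_one])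
  have hY1 : π kY ≠ 1 := by
    intro e
    rcases hN0c kY ((QuotientGroup.eq_one_iff _).1 e) with h | h
    · have := congrArg Subtype.val h
      rw [OneMemClass.coe_one, ← map_one F.φ] at this
      exact absurd (F.inj this) (by decide +kernel)
    · exact absurd (F.inj (congrArg Subtype.val h :)) (by decide +kernel)
  have ho3 : orderOf (π kY) = 3 :=
    orderOf_eq_prime (by rw [← map_pow, hY3, map_one]) hY1
  let X := zpowers (π kY)
  have hX3 : Nat.card X = 3 := by rw [Nat.card_zpowers, ho3]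
  have hsc : centralizer (X : Set (K ⧸ N0)) = X := by
    refine le_antisymm (fun q hq => ?_) ?_
    · obtain ⟨m, rfl⟩ := QuotientGroup.mk'_surjective N0 q
      have h1 : π kY * π m = π m * π kY := mem_centralizer_iff.1 hq _ (mem_zpowers _)
      rw [← map_mul, ← map_mul] at h1
      have h2 := QuotientGroup.eq.1 h1
      have h3 : (m : G) * F.φ aY = F.φ aY * m := by
        rcases hN0c _ h2 with h | h
        · exact (congrArg Subtype.val (inv_mul_eq_one.1 h)).symm
        · exfalso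
          have h' : m * kY = kY * m * j := by rw [← h, mul_inv_cancel_left]
          have e : m * kY * m⁻¹ = kY * j := by
            rw [h', mul_assoc (kY * m), ← (hjc m⁻¹), show kY * m * (m⁻¹ * j) = kY * j by group]
          have e3 : (kY * j) ^ 3 = 1 := by rw [← e, conj_pow, hY3, mul_one, mul_inv_cancel]
          rw [(show Commute kY j from hjc kY).mul_pow, hY3, one_mul] at e3
          have := orderOf_dvd_of_pow_eq_one e3
          rw [hj2] at this
          norm_num at this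
      obtain ⟨m8, hm8⟩ := F.cent_y (x := (m : G)) (by rw [← F.hall]; exact h3)
      have hcy : m8 * aY = aY * m8 := F.inj (by rw [map_mul, map_mul, hm8]; exact h3)
      have hcj : m8 * aJ = aJ * m8 := F.inj (by
        rw [map_mul, map_mul, hm8]; exact mem_centralizer_singleton_iff.1 m.2)
      -- the centralizer of `aY` in `Alt(8)` has order at most 18
      obtain ⟨a, b, e, rfl⟩ : ∃ (a b : Fin 3) (e : Fin 2), m8 = emb (dd a b) * aJ ^ e.val := by
        let T := centralizer ({F.φ aY} : Set G)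
        have hT : Nat.card T = 18 := by
          show Nat.card (centralizer ({F.φ (emb (mZ * mZ'))} : Set G)) = 18
          rw [F.hall]; exact F.C.card_y
        have hd : ∀ a b : Fin 3, ∀ e : Fin 2,
            emb (dd a b) * aJ ^ e.val * aY = aY * (emb (dd a b) * aJ ^ e.val) := by decide +kernel
        let f : Fin 3 × Fin 3 × Fin 2 → T := fun q =>
          ⟨F.φ (emb (dd q.1 q.2.1) * aJ ^ q.2.2.val), mem_centralizer_singleton_iff.2 (by
            rw [← map_mul, hd, map_mul])⟩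
        have hf : Function.Injective f := by
          intro q r h
          have hk : ∀ a b : Fin 3, ∀ e : Fin 2, ∀ a' b' : Fin 3, ∀ e' : Fin 2,
              emb (dd a b) * aJ ^ e.val = emb (dd a' b') * aJ ^ e'.val →
              (a, b, e) = (a', b', e') := by decide +kernel
          exact hk _ _ _ _ _ _ (F.inj (congrArg Subtype.val h :))
        have hb := (Nat.bijective_iff_injective_and_card f).2 ⟨hf, by simp [hT]⟩
        obtain ⟨q, hq⟩ := hb.2 ⟨F.φ m8, mem_centralizer_singleton_iff.2 (by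
          rw [← map_mul, hcy, map_mul])⟩
        exact ⟨q.1, q.2.1, q.2.2, F.inj (congrArg Subtype.val hq :).symm⟩
      have hab : a = b := by
        refine aY_aJ a b ?_
        have := (show Commute _ aJ from hcj).mul_left ((Commute.refl aJ).pow_left e.val).inv_left
        rwa [mul_inv_cancel_right] at this
      subst hab
      have hm' : m = kY ^ a.val * j ^ e.val := Subtype.ext (by
        rw [Subgroup.coe_mul, SubmonoidClass.coe_pow, SubmonoidClass.coe_pow]
        show (m : G) = F.φ aY ^ a.val * F.φ aJ ^ e.val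
        rw [← map_pow, ← map_pow, ← map_mul, ← hm8]
        congr 2
        have k : ∀ a : Fin 3, emb (dd a a) = aY ^ a.val := by decide +kernel
        exact k a)
      rw [hm', map_mul, map_pow, map_pow,
        show π j = 1 from (QuotientGroup.eq_one_iff _).2 (mem_zpowers j), one_pow, mul_one]
      exact pow_mem (mem_zpowers _) _
    · intro q hq
      rw [mem_centralizer_iff]
      intro r hr
      obtain ⟨i, rfl⟩ := mem_zpowers_iff.1 hq
      obtain ⟨l, rfl⟩ := mem_zpowers_iff.1 hr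
      exact (Commute.zpow_zpow (Commute.refl (π kY)) l i).eq
  -- a four-group in the normal 2-subgroup
  let kB1 : K := kY * kB * kY⁻¹ * kB
  have hB1 : ((kB1 : K) : G) = F.φ aB1 := by
    show F.φ aY * F.φ aB * (F.φ aY)⁻¹ * F.φ aB = F.φ aB1
    simp [aB1]
  have hrel : ∀ (w : A8) (hw : F.φ w ∈ K) (n : ℕ), w ^ n = 1 → (⟨F.φ w, hw⟩ : K) ^ n = 1 :=
    fun w hw n e => Subtype.ext (by
      rw [SubmonoidClass.coe_pow]; show F.φ w ^ n = 1; rw [← map_pow, e, map_one])
  have hB2 : kB ^ 2 = 1 := hrel _ _ 2 (by decide +kernel)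
  have hB1s : kB1 ^ 2 = 1 := Subtype.ext (by
    rw [SubmonoidClass.coe_pow, hB1, ← map_pow, show aB1 ^ 2 = 1 by decide +kernel, map_one]; rfl)
  have hN : ∃ (N : Subgroup (K ⧸ N0)) (_ : N.Normal), Group.IsNilpotent N ∧ π kB1 ∈ N := by
    rcases Cfsg.Agent.S3331.result X hX3 hsc with ⟨N, hNn, hnil, -, h | ⟨⟨e⟩⟩⟩ | ⟨N, hNn, hab, hexp, ⟨e⟩⟩
        | ⟨⟨e⟩⟩
    · refine ⟨N, hNn, hnil, ?_⟩
      haveI : IsCyclic ((K ⧸ N0) ⧸ N) := isCyclic_of_prime_card h
      let q := (QuotientGroup.mk' N).comp π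
      have hcq : ∀ r s : (K ⧸ N0) ⧸ N, r * s = s * r := fun r s => IsCyclic.commGroup.mul_comm r s
      have : q kB1 = 1 := by
        simp only [kB1, map_mul, map_inv]
        rw [hcq (q kY) (q kB), mul_inv_cancel_right, ← pow_two, ← map_pow, hB2, map_one]
      exact (QuotientGroup.eq_one_iff _).1 this
    · refine ⟨N, hNn, hnil, ?_⟩
      let q : K →* Perm (Fin 3) := e.toMonoidHom.comp ((QuotientGroup.mk' N).comp π)
      have hw : q kB1 = q kY * q kB * (q kY)⁻¹ * q kB := by simp [kB1]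
      have h1 := s3_aux (q kY) (q kB) ⟨by rw [← map_pow, hY3, map_one],
        by rw [← map_pow, hB2, map_one], by rw [← hw, ← map_pow, hB1s, map_one]⟩
      rw [← hw] at h1
      have h2 : (QuotientGroup.mk' N) (π kB1) = 1 := e.injective (by rw [map_one]; exact h1)
      exact (QuotientGroup.eq_one_iff _).1 h2
    · refine ⟨N, hNn, ?_, ?_⟩
      · letI : CommGroup N := { (inferInstance : Group N) with mul_comm := hab.is_comm.comm }
        exact Group.IsNilpotent.mk (by exact (CommGroup.isNilpotent (G := N)).nilpotent')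
      let q : K →* Perm (Fin 5) := (alternatingGroup (Fin 5)).subtype.comp
        (e.toMonoidHom.comp ((QuotientGroup.mk' N).comp π))
      have hker : ∀ w : K, q w = 1 → π w ∈ N := fun w hw => by
        refine (QuotientGroup.eq_one_iff _).1 (e.injective ?_)
        rw [map_one]; exact Subtype.ext hw
      have hs : ∀ w : K, Perm.sign (q w) = 1 := fun w =>
        (e ((QuotientGroup.mk' N) (π w))).2
      have h24 : ∀ (w : A8) (hw : F.φ w ∈ K), w ^ 24 = 1 → q ⟨F.φ w, hw⟩ ^ 24 = 1 :=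
        fun w hw e => by rw [← map_pow, hrel w hw 24 e, map_one]
      have hqY : q kY ≠ 1 := fun h => by
        have h1 := hexp _ (hker kY h)
        have := orderOf_dvd_of_pow_eq_one h1
        rw [ho3] at this; norm_num at this
      have hT2 : kT ^ 2 = 1 := hrel _ _ 2 (by decide +kernel)
      have hTY : kT * kY = kY⁻¹ * kT := Subtype.ext (by
        show F.φ aT * F.φ aY = (F.φ aY)⁻¹ * F.φ aT
        rw [← map_inv, ← map_mul, ← map_mul]; exact congrArg F.φ (by decide +kernel))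
      have hw : q kB1 = q kY * q kB * (q kY)⁻¹ * q kB := by simp [kB1]
      refine hker _ ?_
      rw [hw]
      refine a5_aux (q kY) ⟨hs _, by rw [← map_pow, hY3, map_one], hqY⟩ (q kT)
        ⟨hs _, by rw [← map_pow, hT2, map_one], by rw [← map_mul, hTY, map_mul, map_inv]⟩ (q kB)
        ⟨hs _, by rw [← map_pow, hB2, map_one], by rw [← hw, ← map_pow, hB1s, map_one], ?_, ?_, ?_,
          ?_⟩
      · rw [← map_mul, ← map_pow]
        exact (congrArg q (Subtype.ext (by
          show (F.φ aY * F.φ aB) ^ 24 = 1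
          rw [← map_mul, ← map_pow, show (aY * aB) ^ 24 = 1 by decide +kernel, map_one]) :
            (kY * kB) ^ 24 = 1)).trans (map_one q)
      · rw [← map_mul, ← map_pow]
        exact (congrArg q (Subtype.ext (by
          show (F.φ aT * F.φ aB) ^ 24 = 1
          rw [← map_mul, ← map_pow, show (aT * aB) ^ 24 = 1 by decide +kernel, map_one]) :
            (kT * kB) ^ 24 = 1)).trans (map_one q)
      · rw [← map_mul, ← map_mul, ← map_pow]
        exact (congrArg q (Subtype.ext (by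
          show (F.φ aY * F.φ aT * F.φ aB) ^ 24 = 1
          rw [← map_mul, ← map_mul, ← map_pow, show (aY * aT * aB) ^ 24 = 1 by decide +kernel,
            map_one]) : (kY * kT * kB) ^ 24 = 1)).trans (map_one q)
      · rw [← map_mul, ← map_mul, ← map_mul, ← map_pow]
        exact (congrArg q (Subtype.ext (by
          show (F.φ aY * F.φ aY * F.φ aT * F.φ aB) ^ 24 = 1
          rw [← map_mul, ← map_mul, ← map_mul, ← map_pow,
            show (aY * aY * aT * aB) ^ 24 = 1 by decide +kernel, map_one]) :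
            (kY * kY * kT * kB) ^ 24 = 1)).trans (map_one q)
    · -- `PSL(2,7)` is too small for the subgroup of order 96 inside
      exfalso
      exact F.no_psl rfl e
  obtain ⟨N, hNn, hnil, hB1N⟩ := hN
  haveI := hNn
  haveI := hnil
  obtain ⟨S⟩ : Nonempty (Sylow 2 N) := inferInstance
  have hSn : (S : Subgroup N).Normal :=
    Sylow.normal_of_normalizerCondition (Group.normalizerCondition_of_isNilpotent) S
  haveI := hSn
  haveI : (S : Subgroup N).Characteristic := Sylow.characteristic_of_normal S hSn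
  set P2 := (S : Subgroup N).map N.subtype
  have hP2n : P2.Normal := inferInstance
  have hb1 : π kB1 ∈ P2 := by
    refine ⟨⟨_, hB1N⟩, ?_, rfl⟩
    have hp : IsPGroup 2 (zpowers (⟨π kB1, hB1N⟩ : N)) := by
      rintro ⟨w, hw⟩
      obtain ⟨i, rfl⟩ := mem_zpowers_iff.1 hw
      refine ⟨1, Subtype.ext ?_⟩
      have e : (⟨π kB1, hB1N⟩ : N) ^ (2 : ℤ) = 1 := by
        rw [zpow_ofNat]; exact Subtype.ext (by
          rw [SubmonoidClass.coe_pow, ← map_pow, hB1s, map_one]; rfl)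
      rw [SubmonoidClass.coe_pow, pow_one, ← zpow_natCast, ← zpow_mul, mul_comm,
        show ((2 : ℕ) : ℤ) = 2 from rfl, zpow_mul, e, one_zpow]
      rfl
    obtain ⟨S', hS'⟩ := hp.exists_le_sylow
    haveI := Sylow.unique_of_normal S hSn
    rw [Subsingleton.elim S S']
    exact hS' (mem_zpowers _)
  let Pt := P2.comap π
  haveI hPtn : Pt.Normal := hP2n.comap π
  have hPt : IsPGroup 2 Pt := by
    refine (S.2.map N.subtype).comap_of_ker_isPGroup π ?_
    rw [QuotientGroup.ker_mk']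
    exact IsPGroup.of_card (n := 1) (by rw [Nat.card_zpowers, hj2, pow_one])
  let HK : Subgroup K := F.H.subgroupOf K
  have hB1Pt : kB1 ∈ Pt := hb1
  have hB2Pt : kY * kB1 * kY⁻¹ ∈ Pt := hPtn.conj_mem _ hB1Pt _
  have hB2c : ((kY * kB1 * kY⁻¹ : K) : G) = F.φ aB2 := by
    rw [Subgroup.coe_mul, Subgroup.coe_mul, Subgroup.coe_inv, hB1]
    show F.φ aY * F.φ aB1 * (F.φ aY)⁻¹ = F.φ aB2
    simp [aB2]
  have hU1 : F.IsU (F.φ aB1) :=
    F.isU_of_fixed _ (by decide +kernel) (by decide +kernel) ⟨3, by decide +kernel⟩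
  have hU2 : F.IsU (F.φ aB2) :=
    F.isU_of_fixed _ (by decide +kernel) (by decide +kernel) ⟨3, by decide +kernel⟩
  have hU12 : F.IsU (F.φ (aB1 * aB2)) :=
    F.isU_of_fixed _ (by decide +kernel) (by decide +kernel) ⟨3, by decide +kernel⟩
  have hkey : ∀ n : G, n * F.φ aB1 * n⁻¹ ∈ F.H → n * F.φ aB2 * n⁻¹ ∈ F.H → n ∈ F.H := fun n =>
    F.key hU1 hU2 hU12 (by decide +kernel) (by decide +kernel)
  have hle : Pt ≤ HK := by
    by_contra hne
    have hlt : HK.subgroupOf Pt < ⊤ := lt_top_iff_ne_top.2 fun h => hne (subgroupOf_eq_top.1 h)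
    haveI : Group.IsNilpotent Pt := hPt.isNilpotent
    obtain ⟨n, hnN, hnS⟩ := SetLike.exists_of_lt (Group.normalizerCondition_of_isNilpotent _ hlt)
    apply hnS
    refine mem_subgroupOf.2 (mem_subgroupOf.2 ?_)
    have hcl : ∀ w : K, w ∈ Pt → (w : G) ∈ F.H → ((n : K) : G) * w * ((n : K) : G)⁻¹ ∈ F.H :=
      fun w hw hwH => mem_subgroupOf.1 (mem_subgroupOf.1
        ((mem_normalizer_iff.1 hnN ⟨w, hw⟩).1 (mem_subgroupOf.2 (mem_subgroupOf.2 hwH))))
    exact hkey _ (hB1 ▸ hcl _ hB1Pt (hB1 ▸ ⟨aB1, rfl⟩))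
      (hB2c ▸ hcl _ hB2Pt (hB2c ▸ ⟨aB2, rfl⟩))
  have hxK : x ∈ K := mem_centralizer_singleton_iff.2 hx
  refine hkey x ?_ ?_
  · have := mem_subgroupOf.1 (hle (hPtn.conj_mem _ hB1Pt ⟨x, hxK⟩))
    rw [← hB1]; exact this
  · have := mem_subgroupOf.1 (hle (hPtn.conj_mem _ hB2Pt ⟨x, hxK⟩))
    rw [← hB2c]; exact this

theorem cent_free (p : A8) (hp : p * p = 1) (hp1 : p ≠ 1) (hf : ∀ i, (p : Perm (Fin 8)) i ≠ i)
    {x : G} (hx : x * F.φ p = F.φ p * x) : x ∈ F.H := by
  rcases invol_class p hp hp1 with ⟨⟨i, hi⟩, -⟩ | ⟨-, k, hk⟩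
  · exact absurd hi (hf i)
  · refine F.mem_of_conj (k := k) (F.cent_J ?_)
    rw [← hk, ← F.map_conj]; exact conj_comm _ hx

/-- The power splitting a dihedral product. -/
theorem dihedral_split {x t : G} (hx : x * x = 1) (ht : t * t = 1) (i : ℕ) :
    (x * t) ^ i * x * ((x * t) ^ i)⁻¹ = (x * t) ^ (2 * i) * x := by
  have hs : SemiconjBy x (x * t)⁻¹ (x * t) := by
    rw [SemiconjBy, mul_inv_rev, inv_eq_of_mul_eq_one_right hx, inv_eq_of_mul_eq_one_right ht,
      mul_assoc]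
  rw [← inv_pow, mul_assoc, (hs.pow_right i).eq, ← mul_assoc, ← pow_add, ← two_mul]

theorem eq_of_odd {x t : G} (hx : x * x = 1) (ht : t * t = 1) {i : ℕ} {c : G}
    (hc : (x * t) ^ (2 * i + 1) = c) :
    (x * t) ^ i * x * ((x * t) ^ i)⁻¹ = c * t := by
  rw [dihedral_split hx ht i, ← hc, pow_succ, mul_assoc, mul_assoc x t t, ht, mul_one]

theorem power_inverted {x t : G} (hx : x * x = 1) (ht : t * t = 1) (n : ℕ) :
    x * (x * t) ^ n * x⁻¹ = ((x * t) ^ n)⁻¹ ∧ t * (x * t) ^ n * t⁻¹ = ((x * t) ^ n)⁻¹ := by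
  constructor <;> rw [← conj_pow, ← inv_pow, mul_inv_rev, inv_eq_of_mul_eq_one_right hx,
    inv_eq_of_mul_eq_one_right ht] <;> congr 1
  · rw [← mul_assoc, hx, one_mul]
  · rw [mul_assoc, mul_assoc x, ht, mul_one]

/-- The centralizer of an involution with fixed points. -/
theorem cent_U {x : G} (hx : x * F.φ aU = F.φ aU * x) : x ∈ F.H := by
  classical
  by_contra hxH
  set u := F.φ aU with hudef
  set t := x * F.φ aV * x⁻¹ with htdef
  have htH : t ∉ F.H := by
    intro h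
    refine hxH (F.key_V ?_ h)
    rw [← hudef, hx, mul_inv_cancel_right]
    exact ⟨aU, rfl⟩
  have hut : t * u = u * t := by
    have h1 : F.φ aV * u = u * F.φ aV := by
      rw [hudef, ← map_mul, ← map_mul]; exact congrArg F.φ (by decide +kernel)
    have h2 : x * u * x⁻¹ = u := by rw [hx, mul_inv_cancel_right]
    calc t * u = t * (x * u * x⁻¹) := by rw [h2]
      _ = (x * u * x⁻¹) * t := conj_comm _ h1
      _ = u * t := by rw [h2]
  have ht2 : t * t = 1 := by
    rw [htdef, show x * F.φ aV * x⁻¹ * (x * F.φ aV * x⁻¹) = x * (F.φ aV * F.φ aV) * x⁻¹ by group,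
      ← map_mul, show aV * aV = 1 by decide +kernel, map_one, mul_one, mul_inv_cancel]
  have htU : F.IsU t := F.isU_conj F.isU_aV x
  have hutU : F.IsU (u * t) := by
    have := F.isU_conj F.isU_aUV x
    rwa [map_mul, show x * (F.φ aU * F.φ aV) * x⁻¹ = (x * F.φ aU * x⁻¹) * t by
      rw [htdef]; group, hx, mul_inv_cancel_right] at this
  set a := F.φ aK with hadef
  have hau : a * u = u * a := by
    rw [hadef, hudef, ← map_mul, ← map_mul]; exact congrArg F.φ (by decide +kernel)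
  have ha2 : a * a = 1 := by rw [hadef, ← map_mul, show aK * aK = 1 by decide +kernel, map_one]
  have haU : ¬ F.IsU a := by
    intro h
    obtain ⟨-, -, i, hi⟩ := F.fixed_of_isU aK h
    revert hi; revert i; decide +kernel
  have hauU : F.IsU (u * a) := by
    rw [hudef, hadef, ← map_mul]
    exact F.isU_of_fixed _ (by decide +kernel) (by decide +kernel) ⟨3, by decide +kernel⟩
  have hu2 : u * u = 1 := by rw [hudef, ← map_mul, show aU * aU = 1 by decide +kernel, map_one]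
  obtain ⟨r, hr, hr2, hra, hrt, hr1, hru⟩ : ∃ r : G, r * u = u * r ∧ r * r = 1 ∧
      r * a = a * r ∧ r * t = t * r ∧ r ≠ 1 ∧ r ≠ u := by
    set c := a * t with hc
    set m := orderOf c with hm
    have hcu : Commute c u := Commute.mul_left hau hut
    rcases Nat.even_or_odd' m with ⟨k, hk | hk⟩
    swap
    · exfalso
      apply haU
      refine F.isU_of_conj (k := c ^ k) ?_
      rw [eq_of_odd ha2 ht2 (c := 1) (by rw [← hk, hm, pow_orderOf_eq_one]), one_mul]
      exact htU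
    have hmpos : 0 < m := orderOf_pos c
    set r := c ^ k
    have hrr : r * r = 1 := by rw [← pow_add, ← two_mul, ← hk, hm, pow_orderOf_eq_one]
    have hri : r⁻¹ = r := inv_eq_of_mul_eq_one_right hrr
    have hr1 : r ≠ 1 := by
      intro e
      have := Nat.le_of_dvd (by omega) (orderOf_dvd_of_pow_eq_one e)
      omega
    obtain ⟨i1, i2⟩ := power_inverted ha2 ht2 k
    rw [← hc] at i1 i2
    refine ⟨r, (hcu.pow_left k).eq, hrr, (mul_inv_eq_iff_eq_mul.1 (i1.trans hri)).symm,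
      (mul_inv_eq_iff_eq_mul.1 (i2.trans hri)).symm, hr1, fun e => ?_⟩
    rcases Nat.even_or_odd' k with ⟨l, rfl | rfl⟩
    · set s := c ^ l
      have hss : s * s = u := by rw [← pow_add, ← two_mul]; exact e
      apply haU
      refine F.isU_of_conj (k := s) ?_
      obtain ⟨j1, -⟩ := power_inverted ha2 ht2 l
      rw [← hc] at j1
      have hsa : s * a * s⁻¹ = u * a := by
        have h1 : a * s⁻¹ = s * a := by
          have : a * s = s⁻¹ * a := mul_inv_eq_iff_eq_mul.1 j1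
          calc a * s⁻¹ = a * s⁻¹ * (a * a) := by rw [ha2, mul_one]
            _ = a * (s⁻¹ * a) * a := by group
            _ = a * (a * s) * a := by rw [this]
            _ = s * a := by rw [← mul_assoc a a, ha2, one_mul]
        rw [mul_assoc, h1, ← mul_assoc, hss]
      rw [hsa]; exact hauU
    · apply haU
      refine F.isU_of_conj (k := c ^ l) ?_
      rw [eq_of_odd ha2 ht2 (c := u) e]
      exact hutU
  obtain ⟨r8, hr8⟩ :=
    F.cent_free aK (by decide +kernel) (by decide +kernel) (by decide +kernel) hra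
  subst hr8
  have h8 : r8 * r8 = 1 := F.inj (by rw [map_mul, hr2, map_one])
  have h81 : r8 ≠ 1 := fun e => hr1 (by rw [e, map_one])
  have h8U : r8 * aU = aU * r8 := F.inj (by rw [map_mul, map_mul]; exact hr)
  have h8ne : aU ≠ r8 := fun e => hru (by rw [← e])
  by_cases hf : ∃ i, (r8 : Perm (Fin 8)) i = i
  swap
  · push Not at hf
    exact htH (F.cent_free r8 h8 h81 hf hrt.symm)
  have hu8 : aU * r8 * (aU * r8) = 1 := by
    rw [mul_assoc, ← mul_assoc r8, h8U, mul_assoc, h8, mul_one]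
    decide +kernel
  have hu81 : aU * r8 ≠ 1 := fun e => h8ne (by
    rw [← mul_one aU, ← h8, ← mul_assoc, e, one_mul])
  by_cases hf' : ∃ i, ((aU * r8 : A8) : Perm (Fin 8)) i = i
  swap
  · push Not at hf'
    refine htH (F.cent_free (aU * r8) hu8 hu81 hf' ?_)
    rw [map_mul]
    exact (Commute.mul_right (hut : Commute t u) hrt.symm).eq
  exact htH (F.cent_pair' F.isU_aU (F.isU_of_fixed r8 h8 h81 hf)
    (F.isU_of_fixed _ hu8 hu81 hf') h8U.symm h8ne hut hrt.symm)

theorem cent_inv (p : A8) (hp : p * p = 1) (hp1 : p ≠ 1) {x : G}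
    (hx : x * F.φ p = F.φ p * x) : x ∈ F.H := by
  rcases invol_class p hp hp1 with ⟨-, k, hk⟩ | ⟨hno, -⟩
  · refine F.mem_of_conj (k := k) (F.cent_U ?_)
    rw [← hk, ← F.map_conj]; exact conj_comm _ hx
  · exact F.cent_free p hp hp1 hno hx

/-- The subgroup is the whole group. -/
theorem range_eq_top : F.H = ⊤ := by
  classical
  rw [eq_top_iff]
  intro x _
  suffices hall : ∀ h : G, h * F.φ aU * h⁻¹ ∈ F.H by
    refine F.key_V (hall x) ?_
    obtain ⟨h, hh⟩ := F.isU_conj F.isU_aV x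
    rw [← hh]; exact hall h
  intro h
  by_contra hout
  set t := h * F.φ aU * h⁻¹ with htdef
  set a := F.φ aJ with hadef
  have ha2 : a * a = 1 := by rw [hadef, ← map_mul, show aJ * aJ = 1 by decide +kernel, map_one]
  have ht2 : t * t = 1 := by
    rw [htdef, show h * F.φ aU * h⁻¹ * (h * F.φ aU * h⁻¹) = h * (F.φ aU * F.φ aU) * h⁻¹ by group,
      ← map_mul, show aU * aU = 1 by decide +kernel, map_one, mul_one, mul_inv_cancel]
  set c := a * t with hc
  set m := orderOf c with hm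
  rcases Nat.even_or_odd' m with ⟨k, hk | hk⟩
  swap
  · apply F.not_isU_J
    refine F.isU_of_conj (k := c ^ k) ?_
    rw [← hadef, eq_of_odd ha2 ht2 (c := 1) (by rw [← hk, hm, pow_orderOf_eq_one]), one_mul]
    exact ⟨h, rfl⟩
  have hmpos : 0 < m := orderOf_pos c
  set r := c ^ k with hr
  have hrr : r * r = 1 := by rw [hr, ← pow_add, ← two_mul, ← hk, hm, pow_orderOf_eq_one]
  have hri : r⁻¹ = r := inv_eq_of_mul_eq_one_right hrr
  have hr1 : r ≠ 1 := by
    intro e
    have := Nat.le_of_dvd (by omega) (orderOf_dvd_of_pow_eq_one e)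
    omega
  obtain ⟨i1, i2⟩ := power_inverted ha2 ht2 k
  rw [← hc, ← hr] at i1 i2
  have hra : r * a = a * r := (mul_inv_eq_iff_eq_mul.1 (i1.trans hri)).symm
  have hrt : t * r = r * t := mul_inv_eq_iff_eq_mul.1 (i2.trans hri)
  obtain ⟨r8, hr8⟩ := F.cent_J hra
  refine hout (F.cent_inv r8 (F.inj ?_) (fun e => hr1 ?_) ?_)
  · rw [map_mul, hr8, hrr, map_one]
  · rw [← hr8, e, map_one]
  · rw [hr8]; exact hrt

end Emb

end CfsgLib.ThreeLocalEight
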