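import Cfsg.Agent.ThreeLocalEight.Model
import Mathlib.GroupTheory.SpecificGroups.Dihedral
import Mathlib.GroupTheory.Sylow
import Mathlib.GroupTheory.Index
import Mathlib.Data.ZMod.Basic

/-!
The normalised local data: a copy of the subgroup of index two of `Sym(3) × Sym(5)` normalising
`⟨z⟩`, and an involution exchanging the two axes of the Sylow 3-subgroup.
-/

set_option autoImplicit false
set_option maxRecDepth 100000

namespace CfsgLib.ThreeLocalEight

open Subgroup Equiv Equiv.Perm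

universe u

/-- The element with coordinates `(a, b)` of the Sylow subgroup of `LK`. -/
def dd (a b : Fin 3) : LK := mZ ^ a.val * mZ' ^ b.val

theorem dd_fst (a b : Fin 3) : (dd a b).1.1 = c3 ^ a.val := by
  simp [dd, mZ, mZ', pk]

theorem dd_snd (a b : Fin 3) : (dd a b).1.2 = c5 ^ b.val := by
  simp [dd, mZ, mZ', pk]

theorem dd_inj {a b a' b' : Fin 3} (h : dd a b = dd a' b') : a = a' ∧ b = b' := by
  have h1 := congrArg (fun x : LK => x.1.1) h
  have h2 := congrArg (fun x : LK => x.1.2) h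
  simp only [dd_fst, dd_snd] at h1 h2
  have k1 : ∀ a a' : Fin 3, c3 ^ a.val = c3 ^ a'.val → a = a' := by decide
  have k2 : ∀ a a' : Fin 3, c5 ^ a.val = c5 ^ a'.val → a = a' := by decide +kernel
  exact ⟨k1 _ _ h1, k2 _ _ h2⟩

theorem dd_mul : ∀ a b a' b' : Fin 3, dd a b * dd a' b' = dd (a + a') (b + b') := by
  decide +kernel

theorem dd_inv : ∀ a b : Fin 3, (dd a b)⁻¹ = dd (-a) (-b) := by decide +kernel

theorem fin3_cases : ∀ a : Fin 3, a = 0 ∨ a = 1 ∨ a = -1 := by decide

theorem fin3_ne : ∀ a : Fin 3, a ≠ 0 → a = 1 ∨ a = -1 := by decide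

theorem fin3_pairs : ∀ a b : Fin 3, a ≠ 0 → b ≠ 0 →
    (a = 1 ∧ b = 1) ∨ (a = -1 ∧ b = 1) ∨ (a = 1 ∧ b = -1) ∨ (a = -1 ∧ b = -1) := by decide

theorem flip_snd : ∀ b : Fin 3, mA * dd 0 b * mA⁻¹ = dd 0 (-b) := by decide +kernel

theorem dd_pow_cases : ∀ b1 b2 : Fin 3, b1 ≠ 0 → ∃ c : Fin 3, dd 0 b2 = dd 0 b1 ^ c.val := by
  decide +kernel

theorem dd_zero_right (a : Fin 3) : dd a 0 = mZ ^ a.val := by simp [dd]

/-- The local data, normalised. -/
structure Ctx (G : Type u) [Group G] where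
  α : LK →* G
  inj : Function.Injective α
  range_eq : α.range = normalizer (zpowers (α mZ) : Set G)
  card_z : Nat.card (centralizer ({α mZ} : Set G)) = 180
  g : G
  gz : g * α mZ * g⁻¹ = α mZ'
  gz' : g * α mZ' * g⁻¹ = α mZ
  gx : g * α mX = α mX * g
  gsq : g * g = 1
  cD : ∀ x : G, x * α mZ = α mZ * x → x * α mZ' = α mZ' * x → ∃ a b : Fin 3, x = α (dd a b)
  card_y : Nat.card (centralizer ({α (mZ * mZ')} : Set G)) = 18
  cent_y : ∀ x : G, x * α (mZ * mZ') = α (mZ * mZ') * x → ∀ a b : Fin 3,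
    ∃ a' b' : Fin 3, x * α (dd a b) * x⁻¹ = α (dd a' b')
  sylow_bound : ∀ R : Subgroup G, IsPGroup 3 R → Nat.card R ∣ 9

variable {G : Type u} [Group G]

theorem card_centralizer_conj (g x : G) :
    Nat.card (centralizer ({g * x * g⁻¹} : Set G)) = Nat.card (centralizer ({x} : Set G)) := by
  have h : centralizer ({g * x * g⁻¹} : Set G) =
      (centralizer ({x} : Set G)).map (MulAut.conj g).toMonoidHom := by
    ext y
    simp only [mem_centralizer_singleton_iff, mem_map, MulEquiv.coe_toMonoidHom,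
      MulAut.conj_apply]
    constructor
    · intro hy
      refine ⟨g⁻¹ * y * g, ?_, by group⟩
      calc g⁻¹ * y * g * x = g⁻¹ * (y * (g * x * g⁻¹)) * g := by group
        _ = g⁻¹ * ((g * x * g⁻¹) * y) * g := by rw [hy]
        _ = x * (g⁻¹ * y * g) := by group
    · rintro ⟨w, hw, rfl⟩
      calc g * w * g⁻¹ * (g * x * g⁻¹) = g * (w * x) * g⁻¹ := by group
        _ = g * (x * w) * g⁻¹ := by rw [hw]
        _ = g * x * g⁻¹ * (g * w * g⁻¹) := by group
  rw [h, Subgroup.card_map_of_injective (MulEquiv.injective _)]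

theorem centralizer_inv_singleton (x : G) :
    centralizer ({x⁻¹} : Set G) = centralizer ({x} : Set G) := by
  ext y
  simp only [mem_centralizer_singleton_iff]
  exact ⟨fun h => by simpa using (Commute.inv_right (h : Commute y x⁻¹)).eq,
    fun h => (Commute.inv_right (h : Commute y x)).eq⟩

theorem conj_mem_zpowers {x n : G} (h : n ∈ normalizer (zpowers x : Set G)) :
    n * x * n⁻¹ ∈ zpowers x :=
  (Subgroup.mem_normalizer_iff.1 h x).1 (mem_zpowers x)

theorem zpowers_three {x y : G} (hx : x ^ 3 = 1) (hy : y ∈ zpowers x) :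
    y = 1 ∨ y = x ∨ y = x⁻¹ := by
  obtain ⟨k, rfl⟩ := mem_zpowers_iff.1 hy
  have h3 : x ^ (3 : ℤ) = 1 := by exact_mod_cast hx
  have hk : x ^ k = x ^ (k % 3) := by
    conv_lhs => rw [← Int.emod_add_mul_ediv k 3, zpow_add, zpow_mul, h3, one_zpow, mul_one]
  rcases (show k % 3 = 0 ∨ k % 3 = 1 ∨ k % 3 = 2 by omega) with h | h | h <;> rw [hk, h]
  · exact Or.inl (zpow_zero x)
  · exact Or.inr (Or.inl (zpow_one x))
  · refine Or.inr (Or.inr (eq_inv_of_mul_eq_one_left ?_))
    rw [← zpow_add_one]; exact h3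

theorem mem_normalizer_zpowers_of [Finite G] {x n : G} (h : n * x * n⁻¹ ∈ zpowers x) :
    n ∈ normalizer (zpowers x : Set G) := by
  have hle : (zpowers x).map (MulAut.conj n).toMonoidHom ≤ zpowers x := by
    rw [map_le_iff_le_comap, zpowers_le]; exact h
  have heq := eq_of_le_of_card_ge hle
    (Subgroup.card_map_of_injective (MulEquiv.injective _)).ge
  rw [Subgroup.mem_normalizer_iff]
  intro y
  constructor
  · intro hy
    rw [← heq]
    exact ⟨y, hy, rfl⟩
  · intro hy
    rw [← heq] at hy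
    obtain ⟨w, hw, hw'⟩ := hy
    have : w = y := by simpa using hw'
    exact this ▸ hw

/-- The local data can be normalised. -/
theorem exists_ctx [Finite G] (P : Sylow 3 G) (D : Subgroup G) (hDP : D = P) (y z : G)
    (hgen : Subgroup.closure {y, z} = D) (hcomm : IsMulCommutative D) (hcard : Nat.card D = 9)
    (hexp : ∀ a ∈ D, a ^ 3 = 1) (hC : Subgroup.centralizer (D : Set G) = D)
    (hN8 : Nat.card (Subgroup.normalizer (D : Set G) ⧸
      D.subgroupOf (Subgroup.normalizer (D : Set G))) = 8)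
    (hyn : (D.subgroupOf (Subgroup.centralizer ({y} : Set G))).Normal)
    (hycard : Nat.card (Subgroup.centralizer ({y} : Set G)) = 18)
    (hzcard : Nat.card (Subgroup.centralizer ({z} : Set G)) = 180)
    (eL : Subgroup.normalizer (Subgroup.zpowers z : Set G) ≃* LK) :
    Nonempty (Ctx G) := by
  classical
  have hyD : y ∈ D := hgen ▸ subset_closure (by simp)
  have hzD : z ∈ D := hgen ▸ subset_closure (by simp)
  have hcommD : ∀ a ∈ D, ∀ b ∈ D, a * b = b * a := fun a ha b hb => by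
    haveI := hcomm
    exact congrArg Subtype.val (hcomm.is_comm.comm (⟨a, ha⟩ : D) ⟨b, hb⟩)
  have hz3 : z ^ 3 = 1 := hexp z hzD
  have hzne : z ≠ 1 := by
    intro h1
    have hD' : D ≤ zpowers y := by
      rw [← hgen, closure_le]
      intro x hx
      rcases hx with rfl | rfl
      · exact mem_zpowers _
      · rw [h1]; exact one_mem _
    have h3 : Nat.card (zpowers y) ≤ 3 := by
      rw [Nat.card_zpowers]; exact Nat.le_of_dvd (by norm_num) (orderOf_dvd_of_pow_eq_one (hexp y hyD))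
    have := card_le_of_le hD'
    omega
  -- the first coordinates
  let α0 : LK →* G := (normalizer (zpowers z : Set G)).subtype.comp eL.symm.toMonoidHom
  have hinj0 : Function.Injective α0 :=
    (Subgroup.subtype_injective _).comp eL.symm.injective
  have hr0 : α0.range = normalizer (zpowers z : Set G) := by
    ext x
    constructor
    · rintro ⟨m, rfl⟩; exact (eL.symm m).2
    · intro hx; exact ⟨eL ⟨x, hx⟩, by simp [α0]⟩
  obtain ⟨m0, hm0⟩ : z ∈ α0.range := hr0 ▸ le_normalizer (mem_zpowers z)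
  have hm3 : m0 ^ 3 = 1 := hinj0 (by rw [map_pow, map_one, hm0, hz3])
  have hm0ne : m0 ≠ 1 := fun h => hzne (by rw [← hm0, h, map_one])
  have hnorm : ∀ n : LK, n * m0 = m0 * n ∨ n * m0 = m0⁻¹ * n := by
    intro n
    have h := conj_mem_zpowers (x := z) (hr0 ▸ ⟨n, rfl⟩ : α0 n ∈ _)
    rcases zpowers_three hz3 h with h1 | h1 | h1
    · exfalso; apply hzne
      have := congrArg (fun x => (α0 n)⁻¹ * x * α0 n) h1
      simpa [mul_assoc] using this
    · exact Or.inl (hinj0 (by rw [map_mul, map_mul, hm0]; exact mul_inv_eq_iff_eq_mul.1 h1))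
    · exact Or.inr (hinj0 (by
        rw [map_mul, map_mul, map_inv, hm0]; exact mul_inv_eq_iff_eq_mul.1 h1))
  have hcomp : ∀ (p : Perm (Fin 5)) (hp : Perm.sign p = 1),
      p * m0.1.2 = m0.1.2 * p ∨ p * m0.1.2 = m0.1.2⁻¹ * p := by
    intro p hp
    rcases hnorm (pk 1 p (by rw [hp]; simp)) with h | h
    · exact Or.inl (congrArg (fun x : LK => x.1.2) h)
    · exact Or.inr (congrArg (fun x : LK => x.1.2) h)
  have hsnd : m0.1.2 = 1 :=
    three_normal_aux _ ⟨congrArg (fun x : LK => x.1.2) hm3,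
      hcomp _ (by decide +kernel), hcomp _ (by decide +kernel)⟩
  have hm0c : m0 = mZ ∨ m0 = mZ⁻¹ := by
    rcases three_fst _ (congrArg (fun x : LK => x.1.1) hm3) with h | h | h
    · exact absurd (lk_ext h hsnd) hm0ne
    · exact Or.inl (lk_ext h hsnd)
    · refine Or.inr (lk_ext ?_ ?_)
      · rw [h]; decide +kernel
      · rw [hsnd]; decide +kernel
  have hz0 : α0 mZ = z ∨ α0 mZ = z⁻¹ := by
    rcases hm0c with h | h
    · exact Or.inl (h ▸ hm0)
    · refine Or.inr ?_
      rw [← hm0, h, map_inv, inv_inv]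
  -- the second coordinate
  obtain ⟨d, hdD, hdz⟩ : ∃ d ∈ D, d ∉ zpowers z := by
    by_contra! h
    have h1 := card_le_of_le (show D ≤ zpowers z from h)
    have h2 : Nat.card (zpowers z) ≤ 3 := by
      rw [Nat.card_zpowers]; exact Nat.le_of_dvd (by norm_num) (orderOf_dvd_of_pow_eq_one hz3)
    omega
  obtain ⟨md, hmd⟩ : d ∈ α0.range := hr0 ▸ mem_normalizer_zpowers_of (by
    rw [hcommD d hdD z hzD, mul_inv_cancel_right]; exact mem_zpowers z)
  have hz0mem : α0 mZ ∈ zpowers z := by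
    rcases hz0 with h | h <;> rw [h]
    · exact mem_zpowers z
    · exact inv_mem (mem_zpowers z)
  have hmd3 : md ^ 3 = 1 := hinj0 (by rw [map_pow, map_one, hmd, hexp d hdD])
  obtain ⟨a, hae⟩ : ∃ a : Fin 3, md.1.1 = c3 ^ a.val := by
    rcases three_fst _ (congrArg (fun x : LK => x.1.1) hmd3) with h | h | h
    · exact ⟨0, h⟩
    · exact ⟨1, by rw [h]; simp⟩
    · exact ⟨2, by rw [h]; decide⟩
  have hmd2 : md.1.2 ≠ 1 := by
    intro h2
    apply hdz
    have hmd' : md = dd a 0 := lk_ext (hae.trans (dd_fst a 0).symm) (h2.trans (by simp [dd_snd]))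
    rw [← hmd, hmd', dd_zero_right, map_pow]
    exact pow_mem hz0mem _
  obtain ⟨p, hp, hpc⟩ := three_conj _ (congrArg (fun x : LK => x.1.2) hmd3) hmd2
  let n0 : LK := pk 1 p (by rw [hp]; simp)
  let α : LK →* G := α0.comp (MulAut.conj n0).toMonoidHom
  have hinj : Function.Injective α := hinj0.comp (MulEquiv.injective _)
  have hαZ : α mZ = α0 mZ := by
    show α0 (n0 * mZ * n0⁻¹) = α0 mZ
    congr 1
    refine lk_ext ?_ ?_ <;> simp [n0, mZ, pk]
  have hzp : zpowers (α mZ) = zpowers z := by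
    rw [hαZ]; rcases hz0 with h | h <;> rw [h]
    exact zpowers_inv
  have hrange : α.range = normalizer (zpowers (α mZ) : Set G) := by
    rw [hzp, ← hr0]
    ext x
    constructor
    · rintro ⟨m, rfl⟩; exact ⟨_, rfl⟩
    · rintro ⟨m, rfl⟩; exact ⟨n0⁻¹ * m * n0, by simp [α, mul_assoc]⟩
  have hcardz : Nat.card (centralizer ({α mZ} : Set G)) = 180 := by
    rw [hαZ]; rcases hz0 with h | h <;> rw [h]
    · exact hzcard
    · rw [centralizer_inv_singleton]; exact hzcard
  have hZD : α mZ ∈ D := (zpowers_le.2 hzD) (hzp ▸ mem_zpowers _)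
  have hZ'D : α mZ' ∈ D := by
    have he : md = dd a 0 * (n0 * mZ' * n0⁻¹) := by
      refine lk_ext ?_ ?_
      · simp [hae, dd_fst, n0, mZ', pk]
      · simp [dd_snd, n0, mZ', pk, hpc]
    have h : d = α0 (dd a 0) * α mZ' := by rw [← hmd, he, map_mul]; rfl
    have hd0 : α0 (dd a 0) ∈ D := by
      rw [dd_zero_right, map_pow]
      exact pow_mem ((zpowers_le.2 hzD) hz0mem) _
    have := mul_mem (inv_mem hd0) hdD
    rwa [h, inv_mul_cancel_left] at this
  have hdd : ∀ a b, α (dd a b) ∈ D := fun a b => by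
    rw [dd, map_mul, map_pow, map_pow]
    exact mul_mem (pow_mem hZD _) (pow_mem hZ'D _)
  have hmemD : ∀ x ∈ D, ∃ a b, x = α (dd a b) := by
    let f : Fin 3 × Fin 3 → D := fun q => ⟨α (dd q.1 q.2), hdd _ _⟩
    have hf : Function.Injective f := fun q r h => by
      have h' : α (dd q.1 q.2) = α (dd r.1 r.2) := (congrArg Subtype.val h :)
      obtain ⟨h1, h2⟩ := dd_inj (hinj h')
      exact Prod.ext h1 h2
    have hb := (Nat.bijective_iff_injective_and_card f).2 ⟨hf, by simp [hcard]⟩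
    intro x hx
    obtain ⟨q, hq⟩ := hb.2 ⟨x, hx⟩
    exact ⟨q.1, q.2, (congrArg Subtype.val hq).symm⟩
  have hcD : ∀ x : G, x * α mZ = α mZ * x → x * α mZ' = α mZ' * x →
      ∃ a b : Fin 3, x = α (dd a b) := by
    intro x h1 h2
    apply hmemD
    rw [← hC, mem_centralizer_iff]
    intro w hw
    obtain ⟨a, b, rfl⟩ := hmemD w hw
    rw [dd, map_mul, map_pow, map_pow]
    exact ((Commute.pow_right (h1 : Commute x _) _).mul_right
      (Commute.pow_right (h2 : Commute x _) _)).symm.eq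
  -- the normalizer of `D` inside the normalizer of `z`
  set ND := normalizer (D : Set G)
  have hND : Nat.card ND = 72 := by
    rw [Subgroup.card_eq_card_quotient_mul_card_subgroup (D.subgroupOf ND), hN8,
      Nat.card_congr (Subgroup.subgroupOfEquivOfLe le_normalizer).toEquiv, hcard]
  let K : Subgroup G := ND ⊓ α.range
  have hdiag : ∀ m : LK, α m ∈ ND ↔
      (m.1.2 * c5 * m.1.2⁻¹ = c5 ∨ m.1.2 * c5 * m.1.2⁻¹ = c5⁻¹) := by
    intro m
    constructor
    · intro h
      have h1 : α m * α mZ' * (α m)⁻¹ ∈ D := (Subgroup.mem_normalizer_iff.1 h _).1 hZ'D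
      obtain ⟨a', b', hab⟩ := hmemD _ h1
      rw [← map_mul, ← map_inv, ← map_mul] at hab
      have e2 := congrArg (fun x : LK => x.1.2) (hinj hab)
      simp only [dd_snd] at e2
      have e2' : m.1.2 * c5 * m.1.2⁻¹ = c5 ^ b'.val := e2
      have k : ∀ b : Fin 3, c5 ^ b.val = 1 ∨ c5 ^ b.val = c5 ∨ c5 ^ b.val = c5⁻¹ := by
        decide +kernel
      rcases k b' with k | k | k <;> rw [k] at e2'
      · exact absurd (conj_eq_one_iff.1 e2') (by decide +kernel)
      · exact Or.inl e2'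
      · exact Or.inr e2'
    · intro h
      have key : ∀ x ∈ D, α m * x * (α m)⁻¹ ∈ D := by
        intro x hx
        obtain ⟨a', b', rfl⟩ := hmemD x hx
        have hm1 : ∀ s : Perm (Fin 3), ∀ a : Fin 3, ∃ a' : Fin 3,
            s * c3 ^ a.val * s⁻¹ = c3 ^ a'.val := by decide
        obtain ⟨a'', ha''⟩ := hm1 m.1.1 a'
        obtain ⟨b'', hb''⟩ : ∃ b'' : Fin 3, m.1.2 * c5 ^ b'.val * m.1.2⁻¹ = c5 ^ b''.val := by
          rw [← conj_pow]
          rcases h with h | h <;> rw [h]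
          · exact ⟨b', rfl⟩
          · have k : ∀ b : Fin 3, c5⁻¹ ^ b.val = c5 ^ (-b).val := by decide +kernel
            exact ⟨-b', k b'⟩
        have e : m * dd a' b' * m⁻¹ = dd a'' b'' := lk_ext
          (by simp [dd_fst, ← ha'']) (by simp [dd_snd, ← hb''])
        rw [← map_mul, ← map_inv, ← map_mul, e]
        exact hdd _ _
      rw [Subgroup.mem_normalizer_iff]
      intro x
      refine ⟨key x, fun hx => ?_⟩
      have hle : D.map (MulAut.conj (α m)).toMonoidHom ≤ D := by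
        rintro _ ⟨w, hw, rfl⟩; exact key w hw
      have heq := eq_of_le_of_card_ge hle
        (Subgroup.card_map_of_injective (MulEquiv.injective _)).ge
      rw [← heq] at hx
      obtain ⟨w, hw, hw'⟩ := hx
      exact (show w = x by simpa using hw') ▸ hw
  have hK : Nat.card K = 36 := by
    rw [← diag_count]
    refine Nat.card_congr (Equiv.ofBijective (fun q =>
      (⟨α ⟨q.1, q.2.1⟩, (hdiag _).2 q.2.2, ⟨_, rfl⟩⟩ : K)) ⟨?_, ?_⟩).symm
    · intro q r h
      have h' : α ⟨q.1, q.2.1⟩ = α ⟨r.1, r.2.1⟩ := (congrArg Subtype.val h :)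
      exact Subtype.ext (congrArg (fun x : LK => x.1) (hinj h'))
    · rintro ⟨x, hx, ⟨m, rfl⟩⟩
      exact ⟨⟨m.1, m.2, (hdiag m).1 hx⟩, rfl⟩
  have hKi : (K.subgroupOf ND).index = 2 := by
    have h := Subgroup.card_mul_index (K.subgroupOf ND)
    rw [Nat.card_congr (Subgroup.subgroupOfEquivOfLe (inf_le_left : K ≤ ND)).toEquiv, hK, hND] at h
    omega
  have hKn := Subgroup.normal_of_index_eq_two hKi
  obtain ⟨n, hn, hnr⟩ : ∃ n ∈ ND, n ∉ α.range := by
    by_contra! h
    have : ND ≤ K := le_inf le_rfl h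
    have := card_le_of_le this
    omega
  have hcardy : ∀ a b : Fin 3, Nat.card (centralizer ({α (dd a b)} : Set G)) = 180 →
      ∀ a' b' : Fin 3, ∀ m : LK, α m * α (dd a b) * (α m)⁻¹ = α (dd a' b') →
      Nat.card (centralizer ({α (dd a' b')} : Set G)) = 180 := fun a b h a' b' m e => by
    rw [← e, card_centralizer_conj]; exact h
  -- conjugates of `z` and `z'` under `n`
  have hmA' : α mA' ∈ ND := (hdiag mA').2 (by decide +kernel)
  have himage : ∀ a b : Fin 3, n * α (dd a 0) * n⁻¹ = α (dd 0 b) → a ≠ 0 → b ≠ 0 := by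
    intro a b h ha hb
    subst hb
    have h1 : α (dd 0 0) = 1 := by
      rw [show dd 0 0 = 1 by decide +kernel, map_one]
    rw [h1] at h
    exact ha (dd_inj (hinj ((conj_eq_one_iff.1 h).trans h1.symm))).1
  obtain ⟨a1, b1, hd1⟩ := hmemD _ ((Subgroup.mem_normalizer_iff.1 hn _).1 hZD)
  have hb1 : b1 ≠ 0 := by
    intro h; subst h
    apply hnr
    rw [hrange]
    refine mem_normalizer_zpowers_of ?_
    rw [hd1, dd_zero_right, map_pow]
    exact pow_mem (mem_zpowers _) _
  have ha1 : a1 = 0 := by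
    have h1 : n⁻¹ * α mA' * n ∈ K := by
      have hm : (⟨α mA', hmA'⟩ : ND) ∈ K.subgroupOf ND :=
        Subgroup.mem_subgroupOf.2 ⟨hmA', ⟨_, rfl⟩⟩
      have := hKn.conj_mem _ hm ⟨n⁻¹, inv_mem hn⟩
      simpa [Subgroup.mem_subgroupOf] using this
    have h2 : n⁻¹ * α mA' * n ∈ normalizer (zpowers (α mZ) : Set G) := hrange ▸ h1.2
    have hZ3 : α mZ ^ 3 = 1 := by
      rw [← map_pow, show mZ ^ 3 = 1 by decide +kernel, map_one]
    have h3 := conj_mem_zpowers h2
    have e : α mA' * α (dd a1 b1) * (α mA')⁻¹ =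
        n * ((n⁻¹ * α mA' * n) * α mZ * (n⁻¹ * α mA' * n)⁻¹) * n⁻¹ := by
      rw [← hd1]; group
    have k : ∀ a b : Fin 3, mA' * dd a b * mA'⁻¹ = dd (-a) b := by decide +kernel
    rw [← map_mul, ← map_inv, ← map_mul, k] at e
    rcases zpowers_three hZ3 h3 with h4 | h4 | h4 <;> rw [h4] at e
    · rw [mul_one, mul_inv_cancel, ← map_one α] at e
      have := congrArg (fun x : LK => x.1.2) (hinj e)
      simp only [dd_snd] at this
      have k2 : ∀ b : Fin 3, c5 ^ b.val = 1 → b = 0 := by decide +kernel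
      exact absurd (k2 _ this) hb1
    · rw [hd1] at e
      have := (dd_inj (hinj e)).1
      have k2 : ∀ a : Fin 3, -a = a → a = 0 := by decide
      exact k2 _ this
    · rw [show n * (α mZ)⁻¹ * n⁻¹ = (n * α mZ * n⁻¹)⁻¹ by group, hd1, ← map_inv, dd_inv] at e
      have := (dd_inj (hinj e)).2
      have k2 : ∀ b : Fin 3, b = -b → b = 0 := by decide
      exact absurd (k2 _ this) hb1
  subst ha1
  have hflip' : ∀ b : Fin 3, ∃ m : LK, m * dd 0 b * m⁻¹ = dd 0 (-b) := fun b =>
    ⟨mA, flip_snd b⟩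
  have hZ'180 : Nat.card (centralizer ({α (dd 0 1)} : Set G)) = 180 := by
    have hb180 : Nat.card (centralizer ({α (dd 0 b1)} : Set G)) = 180 := by
      rw [← hd1, card_centralizer_conj]; exact hcardz
    rcases fin3_ne b1 hb1 with h | h
    · rwa [h] at hb180
    · obtain ⟨m, hm⟩ := hflip' b1
      refine hcardy 0 b1 hb180 0 1 m ?_
      rw [← map_mul, ← map_inv, ← map_mul, hm, h, neg_neg]
  have hmA : α mA ∈ ND := (hdiag mA).2 (by decide +kernel)
  -- `y` is off both axes
  obtain ⟨ay, byy, hy⟩ := hmemD y hyD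
  have hzero : α (dd 0 0) = 1 := by rw [show dd 0 0 = 1 by decide +kernel, map_one]
  have hay : ay ≠ 0 ∧ byy ≠ 0 := by
    constructor <;> intro h <;> subst h
    · rcases fin3_cases byy with h | h | h <;> subst h
      · rw [hy, hzero] at hycard
        have := card_le_of_le (show centralizer ({z} : Set G) ≤ centralizer ({(1 : G)} : Set G) from
          fun x _ => mem_centralizer_singleton_iff.2 (by simp))
        omega
      · rw [hy, hZ'180] at hycard; omega
      · rw [hy, hcardy 0 1 hZ'180 0 (-1) mA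
          (by rw [← map_mul, ← map_inv, ← map_mul,
            show mA * dd 0 1 * mA⁻¹ = dd 0 (-1) by decide +kernel])] at hycard
        omega
    · rcases fin3_cases ay with h | h | h <;> subst h
      · rw [hy, hzero] at hycard
        have := card_le_of_le (show centralizer ({z} : Set G) ≤ centralizer ({(1 : G)} : Set G) from
          fun x _ => mem_centralizer_singleton_iff.2 (by simp))
        omega
      · rw [hy, show dd 1 0 = mZ by decide +kernel, hcardz] at hycard; omega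
      · rw [hy, show dd (-1) 0 = mZ⁻¹ by decide +kernel, map_inv, centralizer_inv_singleton,
          hcardz] at hycard
        omega
  obtain ⟨my, hmyD, hmy⟩ : ∃ my : LK, α my ∈ ND ∧ my * dd ay byy * my⁻¹ = dd 1 1 := by
    rcases fin3_pairs ay byy hay.1 hay.2 with h | h | h | h <;>
      obtain ⟨h, h'⟩ := h <;> subst h <;> subst h'
    · exact ⟨1, by rw [map_one]; exact one_mem _, by simp⟩
    · exact ⟨mA', hmA', by decide +kernel⟩
    · exact ⟨mA, hmA, by decide +kernel⟩
    · exact ⟨mA * mA', by rw [map_mul]; exact mul_mem hmA hmA', by decide +kernel⟩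
  have h11 : α (mZ * mZ') = α my * y * (α my)⁻¹ := by
    rw [hy, ← map_mul, ← map_inv, ← map_mul, hmy]; rfl
  have hyy : Nat.card (centralizer ({α (mZ * mZ')} : Set G)) = 18 := by
    rw [h11, card_centralizer_conj]; exact hycard
  have hcy : ∀ x : G, x * α (mZ * mZ') = α (mZ * mZ') * x → ∀ a b : Fin 3,
      ∃ a' b' : Fin 3, x * α (dd a b) * x⁻¹ = α (dd a' b') := by
    intro x hx a b
    apply hmemD
    set w := (α my)⁻¹ * x * α my
    have hw : w ∈ centralizer ({y} : Set G) := by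
      rw [mem_centralizer_singleton_iff]
      calc w * y = (α my)⁻¹ * (x * (α my * y * (α my)⁻¹)) * α my := by simp only [w]; group
        _ = (α my)⁻¹ * ((α my * y * (α my)⁻¹) * x) * α my := by rw [← h11, hx]
        _ = y * w := by simp only [w]; group
    have hDc : D ≤ centralizer ({y} : Set G) := fun v hv =>
      mem_centralizer_singleton_iff.2 (hcommD v hv y hyD)
    have hwD : ∀ v ∈ D, w * v * w⁻¹ ∈ D := fun v hv => by
      have := hyn.conj_mem ⟨v, hDc hv⟩ (by simpa [Subgroup.mem_subgroupOf] using hv) ⟨w, hw⟩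
      simpa [Subgroup.mem_subgroupOf] using this
    have hvD := (Subgroup.mem_normalizer_iff.1 (inv_mem hmyD) _).1 (hdd a b)
    have := (Subgroup.mem_normalizer_iff.1 hmyD _).1 (hwD _ hvD)
    convert this using 1
    simp only [w]; group
  have hoff : ∀ a b : Fin 3, a ≠ 0 → b ≠ 0 →
      Nat.card (centralizer ({α (dd a b)} : Set G)) = 18 := by
    intro a b ha hb
    obtain ⟨m, hm⟩ : ∃ m : LK, m * dd 1 1 * m⁻¹ = dd a b := by
      rcases fin3_pairs a b ha hb with h | h | h | h <;>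
        obtain ⟨h, h'⟩ := h <;> subst h <;> subst h'
      · exact ⟨1, by decide +kernel⟩
      · exact ⟨mA', by decide +kernel⟩
      · exact ⟨mA, by decide +kernel⟩
      · exact ⟨mA * mA', by decide +kernel⟩
    rw [← hm, map_mul, map_mul, map_inv, card_centralizer_conj,
      show α (dd 1 1) = α (mZ * mZ') from rfl]
    exact hyy
  obtain ⟨a2, b2, hd2⟩ := hmemD _ ((Subgroup.mem_normalizer_iff.1 hn _).1 hZ'D)
  have h2180 : Nat.card (centralizer ({α (dd a2 b2)} : Set G)) = 180 := by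
    rw [← hd2, card_centralizer_conj, show mZ' = dd 0 1 by decide +kernel]; exact hZ'180
  have hb2 : b2 = 0 ∧ a2 ≠ 0 := by
    have ha2 : a2 ≠ 0 := by
      intro h; subst h
      obtain ⟨c, hc⟩ : ∃ c : Fin 3, dd 0 b2 = dd 0 b1 ^ c.val := by
        exact dd_pow_cases b1 b2 hb1
      have e : α mZ' = α mZ ^ c.val := by
        have : n * α mZ' * n⁻¹ = n * α mZ ^ c.val * n⁻¹ := by
          rw [hd2, ← conj_pow, hd1, ← map_pow, hc]
        exact mul_left_cancel (mul_right_cancel this)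
      rw [← map_pow] at e
      have h5 := congrArg (fun x : LK => x.1.2) (hinj e)
      have k : ∀ c : Fin 3, (mZ').1.2 ≠ (mZ ^ c.val).1.2 := by decide +kernel
      exact k c h5
    refine ⟨?_, ha2⟩
    by_contra hb
    rw [hoff a2 b2 ha2 hb] at h2180
    omega
  obtain ⟨hb2, ha2⟩ := hb2
  subst hb2
  obtain ⟨mg, hmg, hmg1, hmg2⟩ : ∃ m : LK, α m ∈ ND ∧ m * dd 0 b1 * m⁻¹ = mZ' ∧
      m * dd a2 0 * m⁻¹ = mZ := by
    rcases fin3_pairs b1 a2 hb1 ha2 with h | h | h | h <;>
      obtain ⟨h, h'⟩ := h <;> subst h <;> subst h'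
    · exact ⟨1, by rw [map_one]; exact one_mem _, by decide +kernel, by decide +kernel⟩
    · exact ⟨mA, hmA, by decide +kernel, by decide +kernel⟩
    · exact ⟨mA', hmA', by decide +kernel, by decide +kernel⟩
    · exact ⟨mA * mA', by rw [map_mul]; exact mul_mem hmA hmA', by decide +kernel, by decide +kernel⟩
  set g0 := α mg * n
  have hg1 : g0 * α mZ * g0⁻¹ = α mZ' := by
    rw [show g0 * α mZ * g0⁻¹ = α mg * (n * α mZ * n⁻¹) * (α mg)⁻¹ by simp only [g0]; group, hd1,
      ← map_mul, ← map_inv, ← map_mul, hmg1]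
  have hg2 : g0 * α mZ' * g0⁻¹ = α mZ := by
    rw [show g0 * α mZ' * g0⁻¹ = α mg * (n * α mZ' * n⁻¹) * (α mg)⁻¹ by simp only [g0]; group, hd2,
      ← map_mul, ← map_inv, ← map_mul, hmg2]
  -- make `g` commute with the joint inverter
  have hXZ : α mX * α mZ * (α mX)⁻¹ = (α mZ)⁻¹ := by
    rw [← map_inv, ← map_mul, ← map_mul, ← map_inv,
      show mX * mZ * mX⁻¹ = mZ⁻¹ by decide +kernel]
  have hXZ' : α mX * α mZ' * (α mX)⁻¹ = (α mZ')⁻¹ := by
    rw [← map_inv, ← map_mul, ← map_mul, ← map_inv,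
      show mX * mZ' * mX⁻¹ = mZ'⁻¹ by decide +kernel]
  set w := g0⁻¹ * α mX * g0 with hwdef
  have hwZ : w * α mZ * w⁻¹ = (α mZ)⁻¹ := by
    rw [show w * α mZ * w⁻¹ = g0⁻¹ * (α mX * (g0 * α mZ * g0⁻¹) * (α mX)⁻¹) * g0 by
      simp only [w]; group, hg1, hXZ', ← hg1]
    group
  have hwZ' : w * α mZ' * w⁻¹ = (α mZ')⁻¹ := by
    rw [show w * α mZ' * w⁻¹ = g0⁻¹ * (α mX * (g0 * α mZ' * g0⁻¹) * (α mX)⁻¹) * g0 by
      simp only [w]; group, hg2, hXZ, ← hg2]
    group
  obtain ⟨m5, hm5⟩ : w ∈ α.range := by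
    rw [hrange]; exact mem_normalizer_zpowers_of (by rw [hwZ]; exact inv_mem (mem_zpowers _))
  rw [← hm5, ← map_mul, ← map_inv, ← map_mul, ← map_inv] at hwZ hwZ'
  have hw2 : m5 ^ 2 = 1 := hinj (by
    rw [map_pow, map_one, hm5, hwdef, sq,
      show g0⁻¹ * α mX * g0 * (g0⁻¹ * α mX * g0) = g0⁻¹ * (α mX * α mX) * g0 by group, ← map_mul,
      show mX * mX = 1 by decide +kernel, map_one, mul_one, inv_mul_cancel])
  have q1 : m5.1.1 * c3 = c3⁻¹ * m5.1.1 :=
    congrArg (fun x : LK => x.1.1) (mul_inv_eq_iff_eq_mul.1 (hinj hwZ))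
  have q2 : m5.1.2 * c5 = c5⁻¹ * m5.1.2 :=
    congrArg (fun x : LK => x.1.2) (mul_inv_eq_iff_eq_mul.1 (hinj hwZ'))
  obtain ⟨i, hi⟩ := fst_inverter _ q1
  obtain ⟨j, hj⟩ := snd_inverter _ ⟨q2, congrArg (fun x : LK => x.1.2) hw2, by
    have h1 := fst_sign_inv _ q1
    have h2 := lk_sign m5
    rw [h1] at h2
    have k : ∀ u : ℤˣ, (-1 : ℤˣ) * u = 1 → u = -1 := by decide
    exact k _ h2⟩
  have hm5' : m5 = dd i j * mX * (dd i j)⁻¹ := lk_ext
    (by simp [dd_fst, mX, pk, hi]) (by simp [dd_snd, mX, pk, hj])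
  set g := g0 * α (dd i j)
  have hgconj : ∀ a b, g * α (dd a b) * g⁻¹ = g0 * α (dd a b) * g0⁻¹ := fun a b => by
    rw [show g * α (dd a b) * g⁻¹ = g0 * (α (dd i j) * α (dd a b) * (α (dd i j))⁻¹) * g0⁻¹ by
      simp only [g]; group, ← map_inv, ← map_mul, ← map_mul]
    congr 3
    rw [dd_mul, dd_inv, dd_mul]; congr 1 <;> abel
  have hgz : g * α mZ * g⁻¹ = α mZ' := by
    rw [show mZ = dd 1 0 by decide +kernel, hgconj, ← show mZ = dd 1 0 by decide +kernel, hg1]
  have hgz' : g * α mZ' * g⁻¹ = α mZ := by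
    rw [show mZ' = dd 0 1 by decide +kernel, hgconj, ← show mZ' = dd 0 1 by decide +kernel, hg2]
  have hgx : g * α mX = α mX * g := by
    have : g⁻¹ * α mX * g = α mX := by
      rw [show g⁻¹ * α mX * g = (α (dd i j))⁻¹ * w * α (dd i j) by simp only [g, w]; group, ← hm5,
        hm5', map_mul, map_mul, map_inv]
      group
    calc g * α mX = g * (g⁻¹ * α mX * g) := by rw [this]
      _ = α mX * g := by group
  have hgsq : g * g = 1 := by
    obtain ⟨a, b, hab⟩ := hcD (g * g)
      (by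
        have : g * g * α mZ * (g * g)⁻¹ = α mZ := by
          rw [show g * g * α mZ * (g * g)⁻¹ = g * (g * α mZ * g⁻¹) * g⁻¹ by group, hgz, hgz']
        exact mul_inv_eq_iff_eq_mul.1 this)
      (by
        have : g * g * α mZ' * (g * g)⁻¹ = α mZ' := by
          rw [show g * g * α mZ' * (g * g)⁻¹ = g * (g * α mZ' * g⁻¹) * g⁻¹ by group, hgz', hgz]
        exact mul_inv_eq_iff_eq_mul.1 this)
    have h1 : α (dd a b) * α mX = α mX * α (dd a b) := by
      rw [← hab, mul_assoc, hgx, ← mul_assoc, hgx, mul_assoc]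
    rw [← map_mul, ← map_mul] at h1
    have k : ∀ a b : Fin 3, dd a b * mX = mX * dd a b → dd a b = 1 := by decide +kernel
    rw [hab, k _ _ (hinj h1), map_one]
  refine ⟨⟨α, hinj, hrange, hcardz, g, hgz, hgz', hgx, hgsq, hcD, hyy, hcy, ?_⟩⟩
  intro R hR
  obtain ⟨Q, hQ⟩ := hR.exists_le_sylow
  haveI : Fact (Nat.Prime 3) := ⟨Nat.prime_three⟩
  have h1 : Nat.card (Q : Subgroup G) = 9 := by
    rw [Sylow.card_eq_multiplicity, ← Sylow.card_eq_multiplicity P, ← hDP, hcard]
  exact h1 ▸ card_dvd_of_le hQ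

end CfsgLib.ThreeLocalEight
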