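import Cfsg.Agent.ThreeLocalEight.Hom
import Mathlib.GroupTheory.Perm.Cycle.Type

/-!
Classes of involutions, elements of order three and four-groups of `Alt(8)`.
-/

set_option autoImplicit false
set_option maxRecDepth 100000

namespace CfsgLib.ThreeLocalEight

open Equiv Equiv.Perm

local notation "A8" => alternatingGroup (Fin 8)

def pu : Perm (Fin 8) := swap 3 4 * swap 5 6
def pv : Perm (Fin 8) := swap 3 5 * swap 4 6
def pe : Perm (Fin 8) := swap 3 4 * swap 0 1
def pj : Perm (Fin 8) := swap 0 5 * swap 1 6 * swap 2 7 * swap 3 4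
def pk4 : Perm (Fin 8) := swap 3 4 * swap 5 6 * swap 0 1 * swap 2 7

def aU : A8 := ⟨pu, by rw [mem_alternatingGroup]; decide +kernel⟩
def aV : A8 := ⟨pv, by rw [mem_alternatingGroup]; decide +kernel⟩
def aE : A8 := ⟨pe, by rw [mem_alternatingGroup]; decide +kernel⟩
def aJ : A8 := ⟨pj, by rw [mem_alternatingGroup]; decide +kernel⟩
def aK : A8 := ⟨pk4, by rw [mem_alternatingGroup]; decide +kernel⟩

/-- Conjugacy in `Alt(8)` from the cycle type, given an odd permutation centralising the target. -/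
theorem conj_alt {p q : A8} (h : (p : Perm (Fin 8)).cycleType = (q : Perm (Fin 8)).cycleType)
    (c : Perm (Fin 8)) (hc : c * q = q * c) (hs : Perm.sign c = -1) :
    ∃ k : A8, k * p * k⁻¹ = q := by
  obtain ⟨σ, hσ⟩ := isConj_iff.1 (isConj_iff_cycleType_eq.2 h)
  rcases Int.units_eq_one_or (Perm.sign σ) with hσs | hσs
  · exact ⟨⟨σ, mem_alternatingGroup.2 hσs⟩, Subtype.ext hσ⟩
  · refine ⟨⟨c * σ, mem_alternatingGroup.2 (by rw [map_mul, hs, hσs]; decide)⟩, Subtype.ext ?_⟩
    show c * σ * (p : Perm (Fin 8)) * (c * σ)⁻¹ = q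
    rw [show c * σ * (p : Perm (Fin 8)) * (c * σ)⁻¹ = c * (σ * p * σ⁻¹) * c⁻¹ by group, hσ, hc,
      mul_inv_cancel_right]

/-- The number of cycles of an element of prime order. -/
theorem cycleType_prime {p : ℕ} (hp : p.Prime) {t : Perm (Fin 8)} (h : t ^ p = 1) (h1 : t ≠ 1) :
    ∃ k, 1 ≤ k ∧ t.cycleType = Multiset.replicate k p ∧ k * p = t.support.card := by
  haveI : Fact p.Prime := ⟨hp⟩
  have ho := orderOf_eq_prime h h1
  obtain ⟨n, hn⟩ := cycleType_prime_order (σ := t) (by rw [ho]; exact hp)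
  rw [ho] at hn
  refine ⟨n + 1, by omega, hn, ?_⟩
  rw [← sum_cycleType, hn, Multiset.sum_replicate, smul_eq_mul]

/-- An involution with a fixed point is conjugate to `aU`, any other to `aJ`. -/
theorem invol_class (t : A8) (h : t * t = 1) (h1 : t ≠ 1) :
    ((∃ i, (t : Perm (Fin 8)) i = i) ∧ ∃ k : A8, k * t * k⁻¹ = aU) ∨
    ((∀ i, (t : Perm (Fin 8)) i ≠ i) ∧ ∃ k : A8, k * t * k⁻¹ = aJ) := by
  have h2 : (t : Perm (Fin 8)) ^ 2 = 1 := by
    rw [pow_two]; exact congrArg Subtype.val h
  have h1' : (t : Perm (Fin 8)) ≠ 1 := fun e => h1 (Subtype.ext e)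
  obtain ⟨k, hk, hc, hs⟩ := cycleType_prime Nat.prime_two h2 h1'
  have hle : (t : Perm (Fin 8)).support.card ≤ 8 :=
    (Finset.card_le_univ _).trans_eq (Fintype.card_fin 8)
  have hsign : Perm.sign (t : Perm (Fin 8)) = 1 := t.2
  rw [sign_of_cycleType, hc, Multiset.sum_replicate, Multiset.card_replicate, smul_eq_mul] at hsign
  have ref : ∀ (q : Perm (Fin 8)) (m : ℕ), q ^ 2 = 1 → q ≠ 1 → q.support.card = 2 * m →
      q.cycleType = Multiset.replicate m 2 := fun q m e e1 e2 => by
    obtain ⟨k', -, hc', hs'⟩ := cycleType_prime Nat.prime_two e e1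
    rw [hc']; congr 1; omega
  have hk4 : k = 2 ∨ k = 4 := by
    rcases (show k = 1 ∨ k = 2 ∨ k = 3 ∨ k = 4 by omega) with rfl | rfl | rfl | rfl
    · exact absurd hsign (by decide)
    · exact Or.inl rfl
    · exact absurd hsign (by decide)
    · exact Or.inr rfl
  rcases hk4 with rfl | rfl
  · refine Or.inl ⟨?_, conj_alt (hc.trans (ref pu 2 (by decide +kernel) (by decide +kernel)
      (by decide +kernel)).symm) (swap 3 4) (by decide +kernel) (by decide +kernel)⟩
    by_contra! hn
    have : (t : Perm (Fin 8)).support = Finset.univ :=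
      Finset.eq_univ_iff_forall.2 fun i => mem_support.2 (hn i)
    rw [this, Finset.card_univ, Fintype.card_fin] at hs
    omega
  · refine Or.inr ⟨fun i => ?_, conj_alt (hc.trans (ref pj 4 (by decide +kernel) (by decide +kernel)
      (by decide +kernel)).symm) (swap 3 4) (by decide +kernel) (by decide +kernel)⟩
    have : (t : Perm (Fin 8)).support = Finset.univ :=
      Finset.eq_univ_of_card _ (by rw [Fintype.card_fin]; omega)
    exact mem_support.1 (this ▸ Finset.mem_univ i)

theorem exists_fixed_conj (k t : A8) (h : ∃ i, (t : Perm (Fin 8)) i = i) :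
    ∃ i, ((k * t * k⁻¹ : A8) : Perm (Fin 8)) i = i := by
  obtain ⟨i, hi⟩ := h
  refine ⟨(k : Perm (Fin 8)) i, ?_⟩
  simp [Perm.mul_apply, hi]

/-- Elements of order three. -/
theorem three_class (t : A8) (h : t ^ 3 = 1) (h1 : t ≠ 1) :
    (∃ k : A8, k * t * k⁻¹ = emb mZ) ∨ ∃ k : A8, k * t * k⁻¹ = emb (mZ * mZ') := by
  have h3 : (t : Perm (Fin 8)) ^ 3 = 1 := congrArg Subtype.val h
  have h1' : (t : Perm (Fin 8)) ≠ 1 := fun e => h1 (Subtype.ext e)
  obtain ⟨k, hk, hc, hs⟩ := cycleType_prime Nat.prime_three h3 h1'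
  have hle : (t : Perm (Fin 8)).support.card ≤ 8 :=
    (Finset.card_le_univ _).trans_eq (Fintype.card_fin 8)
  have ref : ∀ (q : Perm (Fin 8)) (m : ℕ), q ^ 3 = 1 → q ≠ 1 → q.support.card = 3 * m →
      q.cycleType = Multiset.replicate m 3 := fun q m e e1 e2 => by
    obtain ⟨k', -, hc', hs'⟩ := cycleType_prime Nat.prime_three e e1
    rw [hc']; congr 1; omega
  rcases (show k = 1 ∨ k = 2 by omega) with rfl | rfl
  · exact Or.inl (conj_alt (hc.trans (ref _ 1 (by decide +kernel) (by decide +kernel)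
      (by decide +kernel)).symm) (swap 3 4) (by decide +kernel) (by decide +kernel))
  · exact Or.inr (conj_alt (hc.trans (ref _ 2 (by decide +kernel) (by decide +kernel)
      (by decide +kernel)).symm) (swap 3 4) (by decide +kernel) (by decide +kernel))

/-- Permutations fixing `pu` under conjugation, used to normalise partners. -/
def cands : List (Perm (Fin 8)) :=
  let s : List (Perm (Fin 8)) := [1, swap 0 1 * swap 1 2, swap 1 2 * swap 0 1, swap 0 1 * swap 1 7,
    swap 1 7 * swap 0 1, swap 0 2 * swap 2 7, swap 2 7 * swap 0 2, swap 1 2 * swap 2 7,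
    swap 2 7 * swap 1 2, swap 0 2 * swap 1 7, swap 0 1 * swap 2 7, swap 0 7 * swap 1 2]
  pe :: (s ++ s.map (fun x => x * pv))

theorem cands_check :
    cands.all (fun x => decide (Perm.sign x = 1) && decide (x * pu = pu * x)) = true := by
  decide +kernel

theorem cands_sign (x : Perm (Fin 8)) (hx : x ∈ cands) : Perm.sign x = 1 ∧ x * pu * x⁻¹ = pu := by
  have h := List.all_eq_true.1 cands_check x hx
  rw [Bool.and_eq_true] at h
  exact ⟨of_decide_eq_true h.1, mul_inv_eq_iff_eq_mul.2 (of_decide_eq_true h.2)⟩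

/-- The eight points as a list. -/
def pts8 : List (Fin 8) := [0, 1, 2, 3, 4, 5, 6, 7]

/-- The double transposition with given points. -/
def dbl (a b c d : Fin 8) (i : Fin 8) : Fin 8 :=
  if i = a then b else if i = b then a else if i = c then d else if i = d then c else i

/-- The partner test. -/
def partnerOk (a b c d : Fin 8) : Bool :=
  !((a != b) && (c != d) && (a != c) && (a != d) && (b != c) && (b != d) &&
    pts8.all (fun i => dbl a b c d (pu i) == pu (dbl a b c d i)) &&
    pts8.any (fun i => pu (dbl a b c d i) == i) &&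
    pts8.any (fun i => dbl a b c d i != pu i)) ||
  cands.any (fun x => pts8.all (fun i => x (dbl a b c d i) == pv (x i)) ||
    pts8.all (fun i => x (dbl a b c d i) == pe (x i)))

theorem dbl_eq {a b c d : Fin 8} (h1 : a ≠ c) (h2 : a ≠ d) (h3 : b ≠ c) (h4 : b ≠ d) (i : Fin 8) :
    (swap a b * swap c d : Perm (Fin 8)) i = dbl a b c d i := by
  show swap a b (swap c d i) = _
  simp only [dbl, Equiv.swap_apply_def]
  split_ifs <;> simp_all

theorem partner_0 : ∀ b c d : Fin 8, partnerOk 0 b c d = true := by decide +kernel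

theorem partner_1 : ∀ b c d : Fin 8, partnerOk 1 b c d = true := by decide +kernel

theorem partner_2 : ∀ b c d : Fin 8, partnerOk 2 b c d = true := by decide +kernel

theorem partner_3 : ∀ b c d : Fin 8, partnerOk 3 b c d = true := by decide +kernel

theorem partner_4 : ∀ b c d : Fin 8, partnerOk 4 b c d = true := by decide +kernel

theorem partner_5 : ∀ b c d : Fin 8, partnerOk 5 b c d = true := by decide +kernel

theorem partner_6 : ∀ b c d : Fin 8, partnerOk 6 b c d = true := by decide +kernel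

theorem partner_7 : ∀ b c d : Fin 8, partnerOk 7 b c d = true := by decide +kernel

theorem partner_all : ∀ a b c d : Fin 8, partnerOk a b c d = true := by
  intro a b c d
  fin_cases a
  exacts [partner_0 b c d, partner_1 b c d, partner_2 b c d, partner_3 b c d, partner_4 b c d, partner_5 b c d, partner_6 b c d, partner_7 b c d]

/-- Classification of the four-groups all of whose involutions have fixed points. -/
theorem pair_class (p q : A8) (hp : p * p = 1) (hp1 : p ≠ 1) (hq : q * q = 1) (hq1 : q ≠ 1)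
    (hpq : p * q = q * p) (hne : p ≠ q) (fp : ∃ i, (p : Perm (Fin 8)) i = i)
    (fq : ∃ i, (q : Perm (Fin 8)) i = i) (fpq : ∃ i, ((p * q : A8) : Perm (Fin 8)) i = i) :
    ∃ k : A8, k * p * k⁻¹ = aU ∧ (k * q * k⁻¹ = aV ∨ k * q * k⁻¹ = aE) := by
  rcases invol_class p hp hp1 with ⟨-, k, hk⟩ | ⟨hno, -⟩
  swap
  · obtain ⟨i, hi⟩ := fp; exact absurd hi (hno i)
  set q' := k * q * k⁻¹
  have hq' : q' * q' = 1 := by
    rw [show q' * q' = k * (q * q) * k⁻¹ by simp only [q']; group, hq, mul_one, mul_inv_cancel]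
  have hq1' : q' ≠ 1 := fun e => hq1 (conj_eq_one_iff.1 e)
  obtain ⟨-, w, hw⟩ : (∃ i, (q' : Perm (Fin 8)) i = i) ∧ ∃ w : A8, w * q' * w⁻¹ = aU := by
    rcases invol_class q' hq' hq1' with h | ⟨hno, -⟩
    · exact h
    · obtain ⟨i, hi⟩ := exists_fixed_conj k q fq; exact absurd hi (hno i)
  set f : Perm (Fin 8) := (w : Perm (Fin 8))⁻¹
  have hform : (q' : Perm (Fin 8)) = swap (f 3) (f 4) * swap (f 5) (f 6) := by
    have e : q' = w⁻¹ * aU * w := by rw [← hw]; group
    rw [e, Subgroup.coe_mul, Subgroup.coe_mul, Subgroup.coe_inv]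
    show f * (swap 3 4 * swap 5 6) * (w : Perm (Fin 8)) = _
    rw [Equiv.swap_apply_apply, Equiv.swap_apply_apply]
    simp only [f, inv_inv]
    group
  have hcomm : pu * (q' : Perm (Fin 8)) = (q' : Perm (Fin 8)) * pu := by
    have : aU * q' = q' * aU := by
      rw [← hk]
      calc k * p * k⁻¹ * q' = k * (p * q) * k⁻¹ := by simp only [q']; group
        _ = k * (q * p) * k⁻¹ := by rw [hpq]
        _ = q' * (k * p * k⁻¹) := by simp only [q']; group
    exact congrArg Subtype.val this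
  have hfix : ∃ i, pu ((q' : Perm (Fin 8)) i) = i := by
    have e : aU * q' = k * (p * q) * k⁻¹ := by rw [← hk]; simp only [q']; group
    obtain ⟨i, hi⟩ := exists_fixed_conj k (p * q) fpq
    rw [← e] at hi
    exact ⟨i, hi⟩
  have hneq : ∃ i, (q' : Perm (Fin 8)) i ≠ pu i := by
    by_contra! h
    have e : q' = aU := Subtype.ext (Equiv.ext h)
    exact hne (mul_left_cancel (mul_right_cancel (hk.trans e.symm)))
  have hall8 : ∀ i : Fin 8, i ∈ pts8 := by decide
  have hd : ∀ {i j : Fin 8}, i ≠ j → f i ≠ f j := fun h => f.injective.ne h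
  have hD : ∀ i, (q' : Perm (Fin 8)) i = dbl (f 3) (f 4) (f 5) (f 6) i := fun i => by
    rw [hform]; exact dbl_eq (hd (by decide)) (hd (by decide)) (hd (by decide)) (hd (by decide)) i
  have hguard : (((f 3 != f 4) && (f 5 != f 6) && (f 3 != f 5) && (f 3 != f 6) && (f 4 != f 5) &&
      (f 4 != f 6) &&
      pts8.all (fun i => dbl (f 3) (f 4) (f 5) (f 6) (pu i) == pu (dbl (f 3) (f 4) (f 5) (f 6) i)) &&
      pts8.any (fun i => pu (dbl (f 3) (f 4) (f 5) (f 6) i) == i) &&
      pts8.any (fun i => dbl (f 3) (f 4) (f 5) (f 6) i != pu i)) : Bool) = true := by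
    simp only [Bool.and_eq_true, bne_iff_ne, List.all_eq_true, List.any_eq_true, beq_iff_eq]
    refine ⟨⟨⟨⟨⟨⟨⟨⟨hd (by decide), hd (by decide)⟩, hd (by decide)⟩, hd (by decide)⟩,
      hd (by decide)⟩, hd (by decide)⟩, fun i _ => ?_⟩, ?_⟩, ?_⟩
    · rw [← hD, ← hD]; exact (Equiv.Perm.congr_fun hcomm i).symm
    · obtain ⟨i, hi⟩ := hfix; exact ⟨i, hall8 i, by rw [← hD]; exact hi⟩
    · obtain ⟨i, hi⟩ := hneq; exact ⟨i, hall8 i, by rw [← hD]; exact hi⟩
  have hok := partner_all (f 3) (f 4) (f 5) (f 6)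
  rw [partnerOk, hguard] at hok
  simp only [Bool.not_true, Bool.false_or, List.any_eq_true, Bool.or_eq_true, List.all_eq_true,
    beq_iff_eq] at hok
  obtain ⟨x, hx, hxe⟩ := hok
  obtain ⟨hxs, hxu⟩ := cands_sign x hx
  have hxe' : x * (q' : Perm (Fin 8)) * x⁻¹ = pv ∨ x * (q' : Perm (Fin 8)) * x⁻¹ = pe := by
    rcases hxe with h | h
    · refine Or.inl (mul_inv_eq_iff_eq_mul.2 (Equiv.ext fun i => ?_))
      show x ((q' : Perm (Fin 8)) i) = _
      rw [hD]; exact h i (hall8 i)
    · refine Or.inr (mul_inv_eq_iff_eq_mul.2 (Equiv.ext fun i => ?_))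
      show x ((q' : Perm (Fin 8)) i) = _
      rw [hD]; exact h i (hall8 i)
  refine ⟨⟨x, mem_alternatingGroup.2 hxs⟩ * k, ?_, ?_⟩
  · rw [show ((⟨x, mem_alternatingGroup.2 hxs⟩ : A8) * k) * p *
      ((⟨x, mem_alternatingGroup.2 hxs⟩ : A8) * k)⁻¹ =
      (⟨x, mem_alternatingGroup.2 hxs⟩ : A8) * (k * p * k⁻¹) * (⟨x, mem_alternatingGroup.2 hxs⟩ : A8)⁻¹
      by group, hk]
    exact Subtype.ext hxu
  · rw [show ((⟨x, mem_alternatingGroup.2 hxs⟩ : A8) * k) * q *
      ((⟨x, mem_alternatingGroup.2 hxs⟩ : A8) * k)⁻¹ =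
      (⟨x, mem_alternatingGroup.2 hxs⟩ : A8) * q' * (⟨x, mem_alternatingGroup.2 hxs⟩ : A8)⁻¹
      by simp only [q']; group]
    rcases hxe' with h | h
    · exact Or.inl (Subtype.ext h)
    · exact Or.inr (Subtype.ext h)

/-- The elements of the centralizer of `⟨pu, pe⟩`. -/
def et (a b c d : Fin 2) : Perm (Fin 8) :=
  swap 3 4 ^ a.val * swap 5 6 ^ b.val * swap 0 1 ^ c.val * swap 2 7 ^ d.val

theorem et_pick : ∀ p q r s : Fin 8, (p = 3 ∨ p = 4) → (q = 5 ∨ q = 6) → (r = 0 ∨ r = 1) →
    (s = 2 ∨ s = 7) → ∃ a b c d : Fin 2,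
    et a b c d 3 = p ∧ et a b c d 5 = q ∧ et a b c d 0 = r ∧ et a b c d 2 = s := by decide +kernel

theorem et_facts : ∀ a b c d : Fin 2, pu (et a b c d 3) = et a b c d 4 ∧
    pu (et a b c d 5) = et a b c d 6 ∧ pe (et a b c d 0) = et a b c d 1 := by decide +kernel

theorem fin8_last : ∀ i : Fin 8, i ≠ 0 → i ≠ 1 → i ≠ 2 → i ≠ 3 → i ≠ 4 → i ≠ 5 → i ≠ 6 → i = 7 := by
  intro i; fin_cases i <;> simp

theorem pick3 : ∀ p : Fin 8, pu p = pe p → pu p ≠ p → (p = 3 ∨ p = 4) := by decide +kernel
theorem pick5 : ∀ p : Fin 8, pe p = p → pu p ≠ p → (p = 5 ∨ p = 6) := by decide +kernel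
theorem pick0 : ∀ p : Fin 8, pu p = p → pe p ≠ p → (p = 0 ∨ p = 1) := by decide +kernel
theorem pick2 : ∀ p : Fin 8, pu p = p → pe p = p → (p = 2 ∨ p = 7) := by decide +kernel

theorem cent_pair (x : A8) (h1 : x * aU = aU * x) (h2 : x * aE = aE * x) :
    ∃ a b c d : Fin 2, (x : Perm (Fin 8)) = et a b c d := by
  set f := (x : Perm (Fin 8))
  have e1 : ∀ i, f (pu i) = pu (f i) := fun i => Equiv.Perm.congr_fun (congrArg Subtype.val h1) i
  have e2 : ∀ i, f (pe i) = pe (f i) := fun i => Equiv.Perm.congr_fun (congrArg Subtype.val h2) i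
  have m3 : pu (f 3) ≠ f 3 := by
    rw [← e1]; exact f.injective.ne (by decide +kernel)
  have p3 := pick3 (f 3) (by rw [← e1, ← e2]; exact congrArg f (by decide +kernel)) m3
  have p5 := pick5 (f 5) (by rw [← e2]; exact congrArg f (by decide +kernel))
    (by rw [← e1]; exact f.injective.ne (by decide +kernel))
  have p0 := pick0 (f 0) (by rw [← e1]; exact congrArg f (by decide +kernel))
    (by rw [← e2]; exact f.injective.ne (by decide +kernel))
  have p2 := pick2 (f 2) (by rw [← e1]; exact congrArg f (by decide +kernel))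
    (by rw [← e2]; exact congrArg f (by decide +kernel))
  obtain ⟨a, b, c, d, q3, q5, q0, q2⟩ := et_pick _ _ _ _ p3 p5 p0 p2
  obtain ⟨r3, r5, r0⟩ := et_facts a b c d
  refine ⟨a, b, c, d, ?_⟩
  have q4 : et a b c d 4 = f 4 := by
    rw [← r3, q3, ← e1]; exact congrArg f (by decide +kernel)
  have q6 : et a b c d 6 = f 6 := by
    rw [← r5, q5, ← e1]; exact congrArg f (by decide +kernel)
  have q1 : et a b c d 1 = f 1 := by
    rw [← r0, q0, ← e2]; exact congrArg f (by decide +kernel)
  have q7 : et a b c d 7 = f 7 := by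
    set g := (et a b c d)⁻¹ * f
    have hg : ∀ i, et a b c d i = f i → g i = i := fun i hi => by
      show (et a b c d)⁻¹ (f i) = i
      rw [← hi]; exact (et a b c d).symm_apply_apply i
    have h7 : g 7 = 7 := fin8_last _
      (fun e => by have := g.injective (e.trans (hg 0 q0).symm); exact absurd this (by decide))
      (fun e => by have := g.injective (e.trans (hg 1 q1).symm); exact absurd this (by decide))
      (fun e => by have := g.injective (e.trans (hg 2 q2).symm); exact absurd this (by decide))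
      (fun e => by have := g.injective (e.trans (hg 3 q3).symm); exact absurd this (by decide))
      (fun e => by have := g.injective (e.trans (hg 4 q4).symm); exact absurd this (by decide))
      (fun e => by have := g.injective (e.trans (hg 5 q5).symm); exact absurd this (by decide))
      (fun e => by have := g.injective (e.trans (hg 6 q6).symm); exact absurd this (by decide))
    have h8 : (et a b c d) ((et a b c d)⁻¹ (f 7)) = et a b c d 7 := congrArg (et a b c d) h7
    rw [← h8]
    exact (et a b c d).apply_symm_apply (f 7)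
  refine Equiv.ext fun i => ?_
  fin_cases i
  exacts [q0.symm, q1.symm, q2.symm, q3.symm, q4.symm, q5.symm, q6.symm, q7.symm]

end CfsgLib.ThreeLocalEight
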