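import Cfsg.Agent.ThreeLocalEight.Local

/-!
The four-group of `C(z)` cannot be centralised only by elements of `C(z)`: otherwise the Sylow
2-subgroups would be dihedral of order 8, and the four-groups would not fit.
-/

set_option autoImplicit false
set_option maxRecDepth 100000

namespace CfsgLib.ThreeLocalEight

open Subgroup Equiv Equiv.Perm

universe u

def mB : LK := pk 1 (swap 0 3 * swap 1 4) (by decide +kernel)
def mB' : LK := pk 1 (swap 0 4 * swap 1 3) (by decide +kernel)
def mR : LK := pk 1 (swap 0 1 * swap 1 3) (by decide +kernel)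
def mP : LK := pk 1 (swap 0 1 * swap 2 3) (by decide +kernel)

theorem fin2_cases : ∀ k : Fin 2, k = 0 ∨ k = 1 := by decide

theorem nine_A : ∀ t : Perm (Fin 5), t ^ 9 = 1 ∧
    t * (swap 0 1 * swap 3 4) = (swap 0 1 * swap 3 4) * t → t = 1 := by decide +kernel

theorem three_fst' : ∀ s : Perm (Fin 3), s ^ 9 = 1 → s = 1 ∨ s = c3 ∨ s = c3 * c3 := by decide

theorem invol_fst : ∀ s : Perm (Fin 3), s ^ 2 = 1 → Perm.sign s = 1 → s = 1 := by decide

theorem invol_fst' : ∀ s : Perm (Fin 3), s ^ 2 = 1 → Perm.sign s = -1 →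
    ∃ a : Fin 3, c3 ^ a.val * t3 * (c3 ^ a.val)⁻¹ = s := by decide

theorem invol_snd : ∀ t : Perm (Fin 5), t ^ 2 = 1 ∧ t ≠ 1 ∧ Perm.sign t = 1 →
    ∃ p : Perm (Fin 5), Perm.sign p = 1 ∧ p * (swap 0 1 * swap 3 4) * p⁻¹ = t := by decide +kernel

theorem invol_snd' : ∀ t : Perm (Fin 5), t ^ 2 = 1 ∧ Perm.sign t = -1 →
    ∃ p : Perm (Fin 5), Perm.sign p = 1 ∧ p * swap 3 4 * p⁻¹ = t := by decide +kernel

theorem eight_fst : ∀ s : Perm (Fin 3), s ^ 8 = 1 → Perm.sign s = 1 → s = 1 := by decide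

theorem four_even' : ∀ t : Perm (Fin 5), t * (swap 0 1 * swap 3 4) = (swap 0 1 * swap 3 4) * t ∧
    t * (swap 0 3 * swap 1 4) = (swap 0 3 * swap 1 4) * t →
    t = 1 ∨ t = swap 0 1 * swap 3 4 ∨ t = swap 0 3 * swap 1 4 ∨ t = swap 0 4 * swap 1 3 := by
  decide +kernel

theorem norm_snd : ∀ t : Perm (Fin 5), t ^ 8 = 1 ∧
    t * (swap 0 1 * swap 3 4) = (swap 0 1 * swap 3 4) * t ∧
    (t * (swap 0 3 * swap 1 4) * t⁻¹ = swap 0 3 * swap 1 4 ∨
      t * (swap 0 3 * swap 1 4) * t⁻¹ = swap 0 4 * swap 1 3) →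
    ∃ i j k : Fin 2, t = (swap 0 1 * swap 3 4) ^ i.val * (swap 0 3 * swap 1 4) ^ j.val *
      swap 3 4 ^ k.val := by decide +kernel

/-- The elements of the Sylow 2-subgroup of the centralizer of `mA` in `LK`. -/
def tel (i j k : Fin 2) : LK := mA ^ i.val * mB ^ j.val * mA' ^ k.val

theorem tel_mul : ∀ i j k i' j' k' : Fin 2, ∃ a b c : Fin 2,
    tel i j k * tel i' j' k' = tel a b c := by decide +kernel

theorem tel_inv : ∀ i j k : Fin 2, ∃ a b c : Fin 2, (tel i j k)⁻¹ = tel a b c := by decide +kernel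

set_option synthInstance.maxSize 2048 in
theorem tel_invol : ∀ i j k : Fin 2, tel i j k * tel i j k = 1 → tel i j k ≠ 1 →
    tel i j k ∈ [mA, mB, mB', mA', mX] := by
  decide +kernel

theorem tel_inj : ∀ i j k i' j' k' : Fin 2, tel i j k = tel i' j' k' → i = i' ∧ j = j' ∧ k = k' := by
  decide +kernel

theorem mR_conj : (∃ i : Fin 3, mR ^ i.val * mB * (mR ^ i.val)⁻¹ = mA) ∧
    (∃ i : Fin 3, mR ^ i.val * mB' * (mR ^ i.val)⁻¹ = mA) ∧
    ∃ i : Fin 3, mR ^ i.val * mA * (mR ^ i.val)⁻¹ = mB := by decide +kernel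

namespace Ctx

variable {G : Type u} [Group G] (C : Ctx G)

theorem α_comm {m n : LK} (h : m * n = n * m) : C.α m * C.α n = C.α n * C.α m := by
  rw [← map_mul, h, map_mul]

theorem snd_comm {m n : LK} (h : C.α m * C.α n = C.α n * C.α m) :
    m.1.2 * n.1.2 = n.1.2 * m.1.2 := by
  rw [← map_mul, ← map_mul] at h
  exact congrArg (fun x : LK => x.1.2) (C.inj h)

theorem fst_comm {m n : LK} (h : C.α m * C.α n = C.α n * C.α m) :
    m.1.1 * n.1.1 = n.1.1 * m.1.1 := by
  rw [← map_mul, ← map_mul] at h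
  exact congrArg (fun x : LK => x.1.1) (C.inj h)

theorem g_mA [Finite G] : C.g * C.α mA * C.g⁻¹ = C.α mA' := by
  set x := C.g * C.α mA * C.g⁻¹ with hx
  have hc : ∀ m n : LK, m * n = n * m →
      C.g * C.α m * C.g⁻¹ * (C.g * C.α n * C.g⁻¹) = C.g * C.α n * C.g⁻¹ * (C.g * C.α m * C.g⁻¹) := by
    intro m n h
    rw [show C.g * C.α m * C.g⁻¹ * (C.g * C.α n * C.g⁻¹) = C.g * (C.α m * C.α n) * C.g⁻¹ by group,
      C.α_comm h]
    group
  have hxz : x * C.α mZ * x⁻¹ = (C.α mZ)⁻¹ := by
    rw [← C.gz', hx, show C.g * C.α mA * C.g⁻¹ * (C.g * C.α mZ' * C.g⁻¹) * (C.g * C.α mA * C.g⁻¹)⁻¹ =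
      C.g * (C.α mA * C.α mZ' * (C.α mA)⁻¹) * C.g⁻¹ by group, ← map_mul, ← map_inv, ← map_mul,
      show mA * mZ' * mA⁻¹ = mZ'⁻¹ by decide +kernel, map_inv]
    group
  obtain ⟨m, hm⟩ := C.mem_range_of_normalize (Or.inr hxz)
  have h1 : C.α m * C.α mX = C.α mX * C.α m := by
    rw [hm, show C.α mX = C.g * C.α mX * C.g⁻¹ by rw [C.gx, mul_inv_cancel_right]]
    exact hc _ _ (by decide +kernel)
  have h2 : C.α m * C.α mZ' = C.α mZ' * C.α m := by
    rw [hm, ← C.gz]
    exact hc _ _ (by decide +kernel)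
  have e1 := C.fst_comm h1
  have e2 := C.snd_comm h1
  have e3 := C.snd_comm h2
  have e4 : m.1.1 * c3 = c3⁻¹ * m.1.1 := by
    rw [← hm, ← map_mul, ← map_inv, ← map_mul, ← map_inv] at hxz
    exact congrArg (fun x : LK => x.1.1) (mul_inv_eq_iff_eq_mul.1 (C.inj hxz))
  have hs : Perm.sign m.1.2 = -1 := by
    have h' := lk_sign m
    rw [fst_sign_inv _ e4] at h'
    have k : ∀ u : ℤˣ, (-1 : ℤˣ) * u = 1 → u = -1 := by decide
    exact k _ h'
  have hm' : m = mA' := lk_ext (fst_flip _ ⟨e4, e1⟩) (snd_fix _ ⟨e3, e2, hs⟩)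
  rw [← hm, hm']

theorem g_mA' [Finite G] : C.g * C.α mA' * C.g⁻¹ = C.α mA := by
  rw [← C.g_mA, C.ginv, show C.g * (C.g * C.α mA * C.g) * C.g = C.g * C.g * C.α mA * (C.g * C.g) by
    group, C.gsq, one_mul, mul_one]

theorem card_dd_off [Finite G] : Nat.card (centralizer ({C.α (dd 1 (-1))} : Set G)) = 18 := by
  rw [show dd 1 (-1) = mA * (mZ * mZ') * mA⁻¹ by decide +kernel, map_mul, map_mul C.α mA, map_inv,
    card_centralizer_conj]
  exact C.card_y

/-- An element of order 3 commuting with an element of `C(z)` whose centraliser in `LK` has no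
further 3-elements is conjugate to a generator of `⟨z⟩`. -/
theorem three_in_cent [Finite G] (m : LK) (hmz : m * mZ = mZ * m)
    (hm : ∀ t : Perm (Fin 5), t ^ 9 = 1 ∧ t * m.1.2 = m.1.2 * t → t = 1)
    {x : G} (hx3 : x ^ 3 = 1) (hx1 : x ≠ 1) (hxc : x * C.α m = C.α m * x) :
    Nat.card (centralizer ({x} : Set G)) = 180 := by
  haveI : Fact (Nat.Prime 3) := ⟨Nat.prime_three⟩
  let K := centralizer ({C.α m} : Set G)
  have hzK : C.α mZ ∈ K := mem_centralizer_singleton_iff.2 (C.α_comm hmz.symm)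
  have hxK : x ∈ K := mem_centralizer_singleton_iff.2 hxc
  have hZ : IsPGroup 3 ((zpowers (C.α mZ)).subgroupOf K) := by
    refine IsPGroup.of_card (n := 1) ?_
    rw [Nat.card_congr (subgroupOfEquivOfLe (zpowers_le.2 hzK)).toEquiv, C.card_zpowers_z, pow_one]
  obtain ⟨P, hP⟩ := hZ.exists_le_sylow
  have hPz : ∀ w : K, w ∈ (P : Subgroup K) → (w : G) ∈ zpowers (C.α mZ) := by
    intro w hw
    have hR := P.2.map K.subtype
    have hzR : C.α mZ ∈ (P : Subgroup K).map K.subtype :=
      ⟨⟨_, hzK⟩, hP (mem_subgroupOf.2 (mem_zpowers _)), rfl⟩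
    have hwR : (w : G) ∈ (P : Subgroup K).map K.subtype := ⟨w, hw, rfl⟩
    have hdvd := C.sylow_bound _ hR
    set R := (P : Subgroup K).map K.subtype
    have hab : (w : G) * C.α mZ = C.α mZ * w := by
      have h9 : Nat.card R = 1 ∨ Nat.card R = 3 ∨ Nat.card R = 9 := by
        have h' : Nat.card R ∈ Nat.divisors 9 := Nat.mem_divisors.2 ⟨hdvd, by norm_num⟩
        rw [show Nat.divisors 9 = {1, 3, 9} by decide] at h'
        simpa using h'
      rcases h9 with h | h | h
      · rw [eq_bot_of_card_eq _ h, mem_bot] at hwR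
        rw [hwR]; simp
      · haveI := isCyclic_of_prime_card (α := R) (p := 3) h
        exact congrArg Subtype.val (IsCyclic.commGroup.mul_comm (⟨w, hwR⟩ : R) ⟨_, hzR⟩)
      · exact congrArg Subtype.val
          ((IsPGroup.commGroupOfCardEqPrimeSq (p := 3) (by rw [h]; norm_num)).mul_comm
            (⟨w, hwR⟩ : R) ⟨_, hzR⟩)
    obtain ⟨n, hn⟩ := C.mem_range_of_comm hab
    have hn9 : n ^ 9 = 1 := by
      refine C.inj ?_
      rw [map_pow, map_one, hn]
      exact orderOf_dvd_iff_pow_eq_one.1 ((Subgroup.orderOf_dvd_natCard R hwR).trans hdvd)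
    have hnm : C.α n * C.α m = C.α m * C.α n := by
      rw [hn]; exact mem_centralizer_singleton_iff.1 w.2
    have h2 := hm _ ⟨congrArg (fun x : LK => x.1.2) hn9, C.snd_comm hnm⟩
    rw [← hn]
    rcases three_fst' _ (congrArg (fun x : LK => x.1.1) hn9) with h | h | h
    · rw [show n = 1 from lk_ext h h2, map_one]; exact one_mem _
    · rw [show n = mZ from lk_ext h h2]; exact mem_zpowers _
    · rw [show n = mZ * mZ from lk_ext h (h2.trans (by decide +kernel)), map_mul]
      exact mul_mem (mem_zpowers _) (mem_zpowers _)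
  have hX : IsPGroup 3 (zpowers (⟨x, hxK⟩ : K)) := IsPGroup.of_card (n := 1) (by
    rw [Nat.card_zpowers, Subgroup.orderOf_mk, orderOf_eq_prime hx3 hx1, pow_one])
  obtain ⟨Q, hQ⟩ := hX.exists_le_sylow
  obtain ⟨k, hk⟩ := MulAction.exists_smul_eq K Q P
  have hxk : k * ⟨x, hxK⟩ * k⁻¹ ∈ (P : Subgroup K) := by
    rw [← hk, Sylow.coe_subgroup_smul]
    exact ⟨⟨x, hxK⟩, hQ (mem_zpowers _), by simp⟩
  have hxz := hPz _ hxk
  rcases zpowers_three (by rw [← map_pow, mZ_cube, map_one]) hxz with h | h | h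
  · exact absurd (conj_eq_one_iff.1 h) hx1
  · rw [← card_centralizer_conj (k : G) x]
    simp only [Subgroup.coe_mul, Subgroup.coe_inv] at h
    rw [h]; exact C.card_z
  · rw [← card_centralizer_conj (k : G) x]
    simp only [Subgroup.coe_mul, Subgroup.coe_inv] at h
    rw [h, centralizer_inv_singleton]; exact C.card_z

/-- An involution commuting with an off-axis element is not conjugate to `α mA`. -/
theorem not_conj_of_off [Finite G] (d : LK) (hd3 : d ^ 3 = 1) (hd1 : d ≠ 1)
    (hd : Nat.card (centralizer ({C.α d} : Set G)) = 18) {t h : G}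
    (ht : t * C.α d = C.α d * t) : h * C.α mA * h⁻¹ ≠ t := by
  intro e
  have hcard := C.three_in_cent mA (by decide +kernel) nine_A (x := h⁻¹ * C.α d * h)
    (by rw [show h⁻¹ * C.α d * h = MulAut.conj h⁻¹ (C.α d) by simp, ← map_pow, ← map_pow, hd3,
      map_one, map_one])
    (by
      intro h1
      apply hd1
      refine C.inj ?_
      rw [map_one]
      exact (conj_eq_one_iff (a := h⁻¹)).1 (by simpa using h1))
    (by
      calc h⁻¹ * C.α d * h * C.α mA = h⁻¹ * (C.α d * t) * h := by rw [← e]; group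
        _ = h⁻¹ * (t * C.α d) * h := by rw [ht]
        _ = C.α mA * (h⁻¹ * C.α d * h) := by rw [← e]; group)
  have := card_centralizer_conj h⁻¹ (C.α d)
  rw [inv_inv, hd] at this
  omega

/-- The degenerate alternative is impossible. -/
theorem not_all_comm [Finite G] (hall : ∀ x ∈ C.CV, x * C.α mZ = C.α mZ * x) : False := by
  classical
  haveI : Fact (Nat.Prime 2) := ⟨Nat.prime_two⟩
  -- the four-group through `mA`
  have hV1 : ∀ x : G, x * C.α mA = C.α mA * x → x * C.α mB = C.α mB * x →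
      x * C.α mZ = C.α mZ * x := by
    intro x h1 h2
    set P := C.α mP
    have hP2 : P * P = 1 := by rw [← map_mul, show mP * mP = 1 by decide +kernel, map_one]
    have hPi : P⁻¹ = P := inv_eq_of_mul_eq_one_right hP2
    have hconj : ∀ m : LK, Commute x (C.α m) → Commute (P * x * P⁻¹) (C.α (mP * m * mP⁻¹)) := by
      intro m hm
      rw [map_mul, map_mul, map_inv]
      show P * x * P⁻¹ * (P * C.α m * P⁻¹) = P * C.α m * P⁻¹ * (P * x * P⁻¹)
      calc P * x * P⁻¹ * (P * C.α m * P⁻¹) = P * (x * C.α m) * P⁻¹ := by group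
        _ = P * (C.α m * x) * P⁻¹ := by rw [hm.eq]
        _ = P * C.α m * P⁻¹ * (P * x * P⁻¹) := by group
    have hy : P * x * P⁻¹ ∈ C.CV := by
      rw [C.mem_CV]
      have k1 : mP * mB * mP⁻¹ = mV := by decide +kernel
      have k2 : mP * (mA * mB) * mP⁻¹ = mW := by decide +kernel
      refine ⟨k1 ▸ hconj _ h2, k2 ▸ hconj _ ?_⟩
      rw [map_mul]
      exact Commute.mul_right h1 h2
    have h3 := hall _ hy
    have hPz : P * C.α mZ = C.α mZ * P := C.α_comm (by decide +kernel)
    calc x * C.α mZ = P⁻¹ * ((P * x * P⁻¹) * (P * C.α mZ * P⁻¹)) * P := by group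
      _ = P⁻¹ * (C.α mZ * (P * x * P⁻¹)) * P := by rw [hPz, mul_inv_cancel_right, h3]
      _ = P⁻¹ * C.α mZ * P * x := by group
      _ = C.α mZ * x := by rw [mul_assoc P⁻¹, ← hPz, inv_mul_cancel_left]
  -- three-elements centralising the four-group
  have hV1three : ∀ x : G, x ^ 3 = 1 → x * C.α mA = C.α mA * x → x * C.α mB = C.α mB * x →
      x = 1 ∨ x = C.α mZ ∨ x = (C.α mZ)⁻¹ := by
    intro x hx3 h1 h2
    obtain ⟨n, hn⟩ := C.mem_range_of_comm (hV1 x h1 h2)
    subst hn
    have hn3 : n ^ 3 = 1 := C.inj (by rw [map_pow, map_one, hx3])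
    have hn9 : n ^ 9 = 1 := by rw [show 9 = 3 * 3 from rfl, pow_mul, hn3, one_pow]
    have e2 := nine_A _ ⟨congrArg (fun x : LK => x.1.2) hn9, C.snd_comm h1⟩
    rcases three_fst _ (congrArg (fun x : LK => x.1.1) hn3) with h | h | h
    · exact Or.inl (by rw [show n = 1 from lk_ext h e2, map_one])
    · exact Or.inr (Or.inl (by rw [show n = mZ from lk_ext h e2]))
    · refine Or.inr (Or.inr ?_)
      rw [← map_inv]
      exact congrArg C.α (lk_ext (h.trans (by decide +kernel)) (e2.trans (by decide +kernel)))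
  have hgA := C.g_mA
  have hgA' := C.g_mA'
  -- the four-group `{1, a, a', x}` is not conjugate to the first one
  have hE : ∀ h : G, h * C.α mA * h⁻¹ ∈ ({C.α mA, C.α mA', C.α mX} : Set G) →
      h * C.α mB * h⁻¹ ∈ ({C.α mA, C.α mA', C.α mX} : Set G) → False := by
    intro h hA hB
    set r := h * C.α mZ * h⁻¹
    have hne : h * C.α mA * h⁻¹ ≠ h * C.α mB * h⁻¹ := fun e => by
      have := C.inj (mul_left_cancel (mul_right_cancel e))
      exact absurd this (by decide +kernel)
    -- `r` commutes with the whole of the second four-group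
    have hrA : Commute r (h * C.α mA * h⁻¹) := by
      have := C.α_comm (show mZ * mA = mA * mZ by decide +kernel)
      exact show r * (h * C.α mA * h⁻¹) = (h * C.α mA * h⁻¹) * r by
        simp only [r]
        calc h * C.α mZ * h⁻¹ * (h * C.α mA * h⁻¹) = h * (C.α mZ * C.α mA) * h⁻¹ := by group
          _ = h * (C.α mA * C.α mZ) * h⁻¹ := by rw [this]
          _ = h * C.α mA * h⁻¹ * (h * C.α mZ * h⁻¹) := by group
    have hrB : Commute r (h * C.α mB * h⁻¹) := by
      have := C.α_comm (show mZ * mB = mB * mZ by decide +kernel)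
      exact show r * (h * C.α mB * h⁻¹) = (h * C.α mB * h⁻¹) * r by
        simp only [r]
        calc h * C.α mZ * h⁻¹ * (h * C.α mB * h⁻¹) = h * (C.α mZ * C.α mB) * h⁻¹ := by group
          _ = h * (C.α mB * C.α mZ) * h⁻¹ := by rw [this]
          _ = h * C.α mB * h⁻¹ * (h * C.α mZ * h⁻¹) := by group
    have hX : C.α mX = C.α mA * C.α mA' := by
      rw [← map_mul]; exact congrArg C.α (by decide +kernel)
    have hX' : C.α mX = C.α mA' * C.α mA := by
      rw [← map_mul]; exact congrArg C.α (by decide +kernel)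
    have hA2 : C.α mA * C.α mA = 1 := by rw [← map_mul, show mA * mA = 1 by decide +kernel, map_one]
    have hA'2 : C.α mA' * C.α mA' = 1 := by
      rw [← map_mul, show mA' * mA' = 1 by decide +kernel, map_one]
    have hall3 : Commute r (C.α mA) ∧ Commute r (C.α mA') := by
      have e1 : C.α mA = C.α mX * C.α mA' := by rw [hX, mul_assoc, hA'2, mul_one]
      have e2 : C.α mA' = C.α mX * C.α mA := by rw [hX', mul_assoc, hA2, mul_one]
      simp only [Set.mem_insert_iff, Set.mem_singleton_iff] at hA hB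
      rcases hA with hA | hA | hA <;> rcases hB with hB | hB | hB <;>
        rw [hA] at hrA hne <;> rw [hB] at hrB hne
      · exact absurd rfl hne
      · exact ⟨hrA, hrB⟩
      · exact ⟨hrA, e2 ▸ hrB.mul_right hrA⟩
      · exact ⟨hrB, hrA⟩
      · exact absurd rfl hne
      · exact ⟨e1 ▸ hrB.mul_right hrA, hrA⟩
      · exact ⟨hrB, e2 ▸ hrA.mul_right hrB⟩
      · exact ⟨e1 ▸ hrA.mul_right hrB, hrB⟩
      · exact absurd rfl hne
    -- hence `g` normalises `⟨r⟩`
    have hE' : ∀ w ∈ ({C.α mA, C.α mA', C.α mX} : Set G), Commute (C.g * r * C.g⁻¹) w := by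
      have h1 : Commute (C.g * r * C.g⁻¹) (C.α mA') := by
        rw [← hgA]; exact hall3.1.map (MulAut.conj C.g).toMonoidHom
      have h2 : Commute (C.g * r * C.g⁻¹) (C.α mA) := by
        rw [← hgA']; exact hall3.2.map (MulAut.conj C.g).toMonoidHom
      intro w hw
      simp only [Set.mem_insert_iff, Set.mem_singleton_iff] at hw
      rcases hw with rfl | rfl | rfl
      · exact h2
      · exact h1
      · rw [hX]; exact h2.mul_right h1
    set w := h⁻¹ * (C.g * r * C.g⁻¹) * h with hwdef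
    have hw3 : w ^ 3 = 1 := by
      have : w = MulAut.conj (h⁻¹ * C.g * h) (C.α mZ) := by
        simp only [w, r, MulAut.conj_apply]; group
      rw [this, ← map_pow, ← map_pow, mZ_cube, map_one, map_one]
    have hwc : ∀ m : LK, h * C.α m * h⁻¹ ∈ ({C.α mA, C.α mA', C.α mX} : Set G) →
        w * C.α m = C.α m * w := by
      intro m hm
      have h1 := (hE' _ hm).eq
      calc w * C.α m = h⁻¹ * (C.g * r * C.g⁻¹ * (h * C.α m * h⁻¹)) * h := by simp only [w]; group
        _ = h⁻¹ * (h * C.α m * h⁻¹ * (C.g * r * C.g⁻¹)) * h := by rw [h1]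
        _ = C.α m * w := by simp only [w]; group
    have hwz := hV1three w hw3 (hwc _ hA) (hwc _ hB)
    set v := h⁻¹ * C.g * h with hv
    have hwv : w = v * C.α mZ * v⁻¹ := by simp only [w, r, v]; group
    obtain ⟨n, hn⟩ : ∃ n, C.α n = v := by
      refine C.mem_range_of_normalize ?_
      rw [← hwv]
      rcases hwz with h1 | h1
      · rw [hwv] at h1
        exact absurd (conj_eq_one_iff.1 h1) C.z_ne_one
      · exact h1
    have hn2 : n ^ 2 = 1 := by
      refine C.inj ?_
      rw [map_pow, map_one, hn, hv, sq,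
        show h⁻¹ * C.g * h * (h⁻¹ * C.g * h) = h⁻¹ * (C.g * C.g) * h by group, C.gsq, mul_one,
        inv_mul_cancel]
    have hn1 : n ≠ 1 := by
      intro e
      rw [e, map_one, hv] at hn
      have hg1 : C.g = 1 := by
        have := congrArg (fun x => h * x * h⁻¹) hn
        simpa [mul_assoc] using this.symm
      have := C.gz
      rw [hg1, one_mul, inv_one, mul_one] at this
      exact absurd (C.inj this) (by decide +kernel)
    have hty : C.g * C.α (mZ * mZ') = C.α (mZ * mZ') * C.g := by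
      have : C.g * C.α (mZ * mZ') * C.g⁻¹ = C.α (mZ * mZ') := by
        rw [map_mul, show C.g * (C.α mZ * C.α mZ') * C.g⁻¹ =
          (C.g * C.α mZ * C.g⁻¹) * (C.g * C.α mZ' * C.g⁻¹) by group, C.gz, C.gz']
        exact C.α_comm (by decide +kernel)
      exact mul_inv_eq_iff_eq_mul.1 this
    have hgeq : C.g = h * C.α n * h⁻¹ := by rw [hn, hv]; group
    have hconjA : ∃ k : G, k * C.α mA * k⁻¹ = C.α n := by
      have hs := congrArg (fun x : LK => x.1.1) hn2
      have ht := congrArg (fun x : LK => x.1.2) hn2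
      rcases Int.units_eq_one_or (Perm.sign n.1.2) with hsn | hsn
      · have h11 : n.1.1 = 1 := invol_fst _ hs (by
          have h' := lk_sign n; rwa [hsn, mul_one] at h')
        obtain ⟨p, hp, hpe⟩ := invol_snd _ ⟨ht, fun e => hn1 (lk_ext h11 e), hsn⟩
        refine ⟨C.α (pk 1 p (by rw [hp]; simp)), ?_⟩
        rw [← map_mul, ← map_inv, ← map_mul]
        refine congrArg C.α (lk_ext ?_ ?_)
        · simp [pk, mA, h11]
        · simp [pk, mA, hpe]
      · obtain ⟨a, ha⟩ := invol_fst' _ hs (by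
          have h' := lk_sign n
          rw [hsn] at h'
          have k : ∀ u : ℤˣ, u * (-1 : ℤˣ) = 1 → u = -1 := by decide
          exact k _ h')
        obtain ⟨p, hp, hpe⟩ := invol_snd' _ ⟨ht, hsn⟩
        have hsa : ∀ a : Fin 3, Perm.sign (c3 ^ a.val) = 1 := by decide
        have hsq' : Perm.sign (c3 ^ a.val) * Perm.sign p = 1 := by rw [hp, hsa a, one_mul]
        refine ⟨C.α (pk (c3 ^ a.val) p hsq') * C.g, ?_⟩
        rw [show C.α (pk (c3 ^ a.val) p hsq') * C.g * C.α mA *
          (C.α (pk (c3 ^ a.val) p hsq') * C.g)⁻¹ =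
          C.α (pk (c3 ^ a.val) p hsq') * (C.g * C.α mA * C.g⁻¹) *
            (C.α (pk (c3 ^ a.val) p hsq'))⁻¹ by group,
          hgA, ← map_mul, ← map_inv, ← map_mul]
        refine congrArg C.α (lk_ext ?_ ?_)
        · simp [pk, mA', ← ha]
        · simp [pk, mA', hpe]
    obtain ⟨k, hk⟩ := hconjA
    refine C.not_conj_of_off (mZ * mZ') (by decide +kernel) (by decide +kernel) C.card_y
      (h := h * k) hty ?_
    rw [hgeq, ← hk]; group
  -- the Sylow 2-subgroup of the centralizer of `a`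
  let T0 : Subgroup G :=
    { carrier := {x | ∃ i j k : Fin 2, x = C.α (tel i j k)}
      one_mem' := ⟨0, 0, 0, by rw [show tel 0 0 0 = 1 by decide +kernel, map_one]⟩
      mul_mem' := by
        rintro _ _ ⟨i, j, k, rfl⟩ ⟨i', j', k', rfl⟩
        obtain ⟨a, b, c, h⟩ := tel_mul i j k i' j' k'
        exact ⟨a, b, c, by rw [← map_mul, h]⟩
      inv_mem' := by
        rintro _ ⟨i, j, k, rfl⟩
        obtain ⟨a, b, c, h⟩ := tel_inv i j k
        exact ⟨a, b, c, by rw [← map_inv, h]⟩ }
  have hT0 : Nat.card T0 = 8 := by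
    have h : Nat.card T0 = Nat.card (Fin 2 × Fin 2 × Fin 2) := by
      refine Nat.card_congr (Equiv.ofBijective (fun q =>
        (⟨C.α (tel q.1 q.2.1 q.2.2), q.1, q.2.1, q.2.2, rfl⟩ : T0)) ⟨?_, ?_⟩).symm
      · intro q r h
        obtain ⟨h1, h2, h3⟩ := tel_inj _ _ _ _ _ _ (C.inj (congrArg Subtype.val h :))
        exact Prod.ext h1 (Prod.ext h2 h3)
      · rintro ⟨x, i, j, k, rfl⟩
        exact ⟨(i, j, k), rfl⟩
    simp [h]
  let K := centralizer ({C.α mA} : Set G)
  have hT0K : T0 ≤ K := by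
    rintro _ ⟨i, j, k, rfl⟩
    refine mem_centralizer_singleton_iff.2 (C.α_comm ?_)
    revert i j k
    decide +kernel
  have hmBT : C.α mB ∈ T0 := ⟨0, 1, 0, congrArg C.α (by decide +kernel)⟩
  have hKsyl : ∀ R : Subgroup G, IsPGroup 2 R → R ≤ K → T0 ≤ R → R = T0 := by
    intro R hR hRK hTR
    by_contra hne
    have hlt : T0.subgroupOf R < ⊤ := lt_top_iff_ne_top.2 fun h =>
      hne (le_antisymm (subgroupOf_eq_top.1 h) hTR)
    haveI : Group.IsNilpotent R := hR.isNilpotent
    obtain ⟨n, hnN, hnT⟩ := SetLike.exists_of_lt (Group.normalizerCondition_of_isNilpotent _ hlt)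
    apply hnT
    rw [mem_subgroupOf]
    have hna : (n : G) * C.α mA = C.α mA * n := mem_centralizer_singleton_iff.1 (hRK n.2)
    have hnb : (n : G) * C.α mB * (n : G)⁻¹ ∈ T0 := by
      have := (mem_normalizer_iff.1 hnN ⟨C.α mB, hTR hmBT⟩).1 (mem_subgroupOf.2 hmBT)
      simpa [mem_subgroupOf] using this
    obtain ⟨i, j, k, hijk⟩ := hnb
    have hna' : (n : G) * C.α mA * (n : G)⁻¹ = C.α mA := mul_inv_eq_iff_eq_mul.2 hna
    have ht2 : tel i j k * tel i j k = 1 ∧ tel i j k ≠ 1 := by
      constructor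
      · refine C.inj ?_
        rw [map_mul, map_one, ← hijk, show (n : G) * C.α mB * (n : G)⁻¹ * (n * C.α mB * (n : G)⁻¹) =
          n * (C.α mB * C.α mB) * (n : G)⁻¹ by group, ← map_mul,
          show mB * mB = 1 by decide +kernel, map_one, mul_one, mul_inv_cancel]
      · intro e
        rw [e, map_one, conj_eq_one_iff, ← map_one C.α] at hijk
        exact absurd (C.inj hijk) (by decide +kernel)
    have hnBA : C.α mA ≠ (n : G) * C.α mB * (n : G)⁻¹ := fun e => by
      rw [← hna'] at e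
      exact absurd (C.inj (mul_left_cancel (mul_right_cancel e))) (by decide +kernel)
    have hcases : (n : G) * C.α mB * (n : G)⁻¹ = C.α mB ∨ (n : G) * C.α mB * (n : G)⁻¹ = C.α mB' := by
      have hmem := tel_invol i j k ht2.1 ht2.2
      simp only [List.mem_cons, List.not_mem_nil, or_false] at hmem
      rcases hmem with h | h | h | h | h <;> rw [h] at hijk
      · exact absurd hijk.symm hnBA
      · exact Or.inl hijk
      · exact Or.inr hijk
      · exact (hE n (by rw [hna']; simp) (by rw [hijk]; simp)).elim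
      · exact (hE n (by rw [hna']; simp) (by rw [hijk]; simp)).elim
    set w := (n : G) * C.α mZ * (n : G)⁻¹ with hw
    have hcm : ∀ m : LK, mZ * m = m * mZ →
        Commute w ((n : G) * C.α m * (n : G)⁻¹) := fun m hm =>
      (show Commute (C.α mZ) (C.α m) from C.α_comm hm).map (MulAut.conj (n : G)).toMonoidHom
    have hwA : Commute w (C.α mA) := hna' ▸ hcm mA (by decide +kernel)
    have hwB : Commute w (C.α mB) := by
      rcases hcases with h | h
      · exact h ▸ hcm mB (by decide +kernel)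
      · have h1 : Commute w (C.α mA * C.α mB') := hwA.mul_right (h ▸ hcm mB (by decide +kernel))
        rwa [← map_mul, show mA * mB' = mB by decide +kernel] at h1
    have hw3 : w ^ 3 = 1 := by rw [hw, conj_pow, ← map_pow, mZ_cube, map_one, mul_one, mul_inv_cancel]
    obtain ⟨m, hm⟩ : ∃ m, C.α m = (n : G) := by
      refine C.mem_range_of_normalize ?_
      rcases hV1three w hw3 hwA hwB with h | h
      · exact absurd (conj_eq_one_iff.1 h) C.z_ne_one
      · exact h
    obtain ⟨a, ha⟩ := IsPGroup.iff_orderOf.1 hR n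
    have hm8 : m ^ 8 = 1 := by
      have ho : orderOf m = 2 ^ a := by
        rw [← orderOf_injective C.α C.inj m, hm, Subgroup.orderOf_coe]; exact ha
      have hdvd : orderOf m ∣ 2 ^ 6 * 45 := by
        have h1 : orderOf m ∣ Nat.card LK := orderOf_dvd_natCard m
        refine h1.trans ?_
        refine (Subgroup.card_subgroup_dvd_card LK).trans ?_
        rw [Nat.card_prod, Nat.card_perm, Nat.card_perm]
        simp [Nat.factorial]
      rw [ho] at hdvd
      have : 2 ^ a ∣ 2 ^ 6 := (Nat.Coprime.pow_left a (by norm_num)).dvd_of_dvd_mul_right hdvd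
      have hle := (Nat.pow_dvd_pow_iff_le_right (by norm_num)).1 this
      have k : ∀ a, a ≤ 6 → ∀ s : Perm (Fin 3), s ^ (2 ^ a) = 1 → s ^ 8 = 1 := by
        intro a ha; interval_cases a <;> decide
      have k5 : ∀ a, a ≤ 6 → ∀ s : Perm (Fin 5), s ^ (2 ^ a) = 1 → s ^ 8 = 1 := by
        intro a ha; interval_cases a <;> decide +kernel
      have hp : m ^ (2 ^ a) = 1 := ho ▸ pow_orderOf_eq_one m
      exact lk_ext (k a hle _ (congrArg (fun x : LK => x.1.1) hp))
        (k5 a hle _ (congrArg (fun x : LK => x.1.2) hp))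
    rw [← hm] at hna hcases
    have hcases2 : m.1.2 * mB.1.2 * m.1.2⁻¹ = mB.1.2 ∨ m.1.2 * mB.1.2 * m.1.2⁻¹ = mB'.1.2 := by
      rcases hcases with h | h <;> rw [← map_mul, ← map_inv, ← map_mul] at h
      · exact Or.inl (congrArg (fun x : LK => x.1.2) (C.inj h))
      · exact Or.inr (congrArg (fun x : LK => x.1.2) (C.inj h))
    obtain ⟨i', j', k', ht⟩ :=
      norm_snd _ ⟨congrArg (fun x : LK => x.1.2) hm8, C.snd_comm hna, hcases2⟩
    refine ⟨i', j', k', ?_⟩
    rw [← hm]
    refine congrArg C.α (lk_ext ?_ ?_)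
    · have hs8 := congrArg (fun x : LK => x.1.1) hm8
      have hsign : Perm.sign m.1.1 = Perm.sign ((tel i' j' k').1.1) := by
        have h1 := lk_sign m
        have h2 := lk_sign (tel i' j' k')
        rw [ht] at h1
        have e : (tel i' j' k').1.2 = (swap 0 1 * swap 3 4) ^ i'.val *
            (swap 0 3 * swap 1 4) ^ j'.val * swap 3 4 ^ k'.val := by
          simp [tel, mA, mB, mA', pk]
        rw [e] at h2
        exact mul_right_cancel (h1.trans h2.symm)
      -- the first coordinate is an involution inverting or the identity; it commutes with `t3`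
      have hA'c : m.1.1 * t3 = t3 * m.1.1 := by
        have hn := (mem_normalizer_iff.1 hnN ⟨C.α mA', hTR ⟨0, 0, 1, congrArg C.α
          (by decide +kernel)⟩⟩).1 (mem_subgroupOf.2 ⟨0, 0, 1, congrArg C.α (by decide +kernel)⟩)
        simp only [mem_subgroupOf, Subgroup.coe_mul, Subgroup.coe_inv] at hn
        obtain ⟨p, q, r, hpqr⟩ := hn
        rw [← hm, ← map_mul, ← map_inv, ← map_mul] at hpqr
        have e := congrArg (fun x : LK => x.1.1) (C.inj hpqr)
        have k : ∀ s : Perm (Fin 3), ∀ p q r : Fin 2,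
            s * t3 * s⁻¹ = (tel p q r).1.1 → s ^ 8 = 1 → s * t3 = t3 * s := by decide +kernel
        exact k _ p q r e hs8
      have k : ∀ s : Perm (Fin 3), ∀ p q r : Fin 2, s * t3 = t3 * s → s ^ 8 = 1 →
          Perm.sign s = Perm.sign (tel p q r).1.1 → s = (tel p q r).1.1 := by decide +kernel
      exact k _ i' j' k' hA'c hs8 hsign
    · simp [tel, mA, mB, mA', pk, ht]
  -- hence `|S| ≤ 8`
  have hS : ∀ R : Subgroup G, IsPGroup 2 R → Nat.card R ≤ 8 := by
    intro R hR
    let V1 : Subgroup G := zpowers (C.α mA) ⊔ zpowers (C.α mB)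
    have hT0p : IsPGroup 2 T0 := IsPGroup.of_card (n := 3) (by rw [hT0]; norm_num)
    obtain ⟨S, hTS⟩ := hT0p.exists_le_sylow
    obtain ⟨R', hR'⟩ := hR.exists_le_sylow
    have hRS : Nat.card R ≤ Nat.card (S : Subgroup G) := by
      refine (card_le_of_le hR').trans ?_
      rw [Sylow.card_eq_multiplicity, Sylow.card_eq_multiplicity]
    refine hRS.trans ?_
    -- a central involution of `S` is conjugate to `a`
    haveI : Nontrivial (S : Subgroup G) :=
      ⟨⟨⟨_, hTS hmBT⟩, 1, fun e => by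
        have := congrArg Subtype.val e
        rw [OneMemClass.coe_one, ← map_one C.α] at this
        exact absurd (C.inj this) (by decide +kernel)⟩⟩
    haveI := S.2.center_nontrivial
    obtain ⟨⟨c, hc⟩, hc1⟩ := exists_ne (1 : Subgroup.center (S : Subgroup G))
    have hAS : C.α mA ∈ (S : Subgroup G) := hTS ⟨1, 0, 0, congrArg C.α (by decide +kernel)⟩
    have hcA : (c : G) * C.α mA = C.α mA * c :=
      (congrArg Subtype.val (Subgroup.mem_center_iff.1 hc ⟨_, hAS⟩)).symm
    have hcB : (c : G) * C.α mB = C.α mB * c :=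
      (congrArg Subtype.val (Subgroup.mem_center_iff.1 hc ⟨_, hTS hmBT⟩)).symm
    obtain ⟨m, hm⟩ := C.mem_range_of_comm (hV1 _ hcA hcB)
    have hmz : m * mZ = mZ * m := C.inj (by rw [map_mul, map_mul, hm]; exact hV1 _ hcA hcB)
    rw [← hm] at hcA hcB
    have h2 := four_even' _ ⟨C.snd_comm hcA, C.snd_comm hcB⟩
    have h1 : m.1.1 = 1 := by
      obtain ⟨a, ha⟩ := IsPGroup.iff_orderOf.1 S.2 c
      have ho : orderOf m.1.1 ∣ 2 ^ a := by
        rw [← ha, ← Subgroup.orderOf_coe, ← hm, orderOf_injective C.α C.inj]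
        exact orderOf_map_dvd ((MonoidHom.fst _ _).comp LK.subtype) m
      rcases (cent_mZ m hmz).1 with h | h | h
      · exact h
      all_goals
        exfalso
        rw [h] at ho
        have h3 : orderOf m.1.1 = 3 := orderOf_eq_prime (by rw [h]; decide) (by rw [h]; decide)
        rw [h] at h3
        rw [h3] at ho
        exact absurd (Nat.prime_three.dvd_of_dvd_pow ho) (by norm_num)
    have hmne : m ≠ 1 := fun e => hc1 (Subtype.ext (Subtype.ext (by rw [← hm, e, map_one]; rfl)))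
    obtain ⟨p, hp⟩ : ∃ p : LK, p * m * p⁻¹ = mA := by
      rcases h2 with h | h | h | h
      · exact absurd (lk_ext h1 h) hmne
      · exact ⟨1, by rw [one_mul, inv_one, mul_one]; exact lk_ext h1 h⟩
      · obtain ⟨i, hi⟩ := mR_conj.1
        exact ⟨mR ^ i.val, by rw [show m = mB from lk_ext h1 h]; exact hi⟩
      · obtain ⟨i, hi⟩ := mR_conj.2.1
        exact ⟨mR ^ i.val, by rw [show m = mB' from lk_ext h1 h]; exact hi⟩
    let S' : Subgroup G := (S : Subgroup G).map (MulAut.conj (C.α p)).toMonoidHom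
    have hS'K : S' ≤ K := by
      rintro _ ⟨s, hs, rfl⟩
      refine mem_centralizer_singleton_iff.2 ?_
      have hcs : s * (c : G) = c * s := congrArg Subtype.val (Subgroup.mem_center_iff.1 hc ⟨s, hs⟩)
      rw [← hp, map_mul, map_mul, map_inv, hm]
      exact ((show Commute s (c : G) from hcs).map (MulAut.conj (C.α p)).toMonoidHom).eq
    have hS' : Nat.card (S : Subgroup G) = Nat.card S' :=
      (Subgroup.card_map_of_injective (MulEquiv.injective _)).symm
    rw [hS']
    have hS'p : IsPGroup 2 S' := S.2.map _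
    -- inside `K`
    obtain ⟨P1, hP1⟩ := (hS'p.comap_subtype (K := K)).exists_le_sylow
    obtain ⟨P2, hP2⟩ := (hT0p.comap_subtype (K := K)).exists_le_sylow
    have hmap : (P2 : Subgroup K).map K.subtype = T0 := hKsyl _ (P2.2.map _) (map_subtype_le _)
      (fun x hx => ⟨⟨x, hT0K hx⟩, hP2 (mem_subgroupOf.2 hx), rfl⟩)
    have e1 : Nat.card (P2 : Subgroup K) = 8 := by
      rw [← Subgroup.card_map_of_injective (f := K.subtype) (Subgroup.subtype_injective _), hmap, hT0]
    calc Nat.card S' = Nat.card (S'.subgroupOf K) :=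
          (Nat.card_congr (subgroupOfEquivOfLe hS'K).toEquiv).symm
      _ ≤ Nat.card (P1 : Subgroup K) := card_le_of_le hP1
      _ = Nat.card (P2 : Subgroup K) := by
          rw [Sylow.card_eq_multiplicity, Sylow.card_eq_multiplicity]
      _ = 8 := e1
  -- the dihedral group `⟨a, a', g⟩`
  let el : Fin 2 → Fin 2 → Fin 2 → G := fun i j k =>
    C.α (mA ^ i.val * mA' ^ j.val) * C.g ^ k.val
  have hsw : ∀ i j : Fin 2, C.g * C.α (mA ^ i.val * mA' ^ j.val) =
      C.α (mA ^ j.val * mA' ^ i.val) * C.g := by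
    intro i j
    refine (mul_inv_eq_iff_eq_mul.1 ?_)
    rw [show C.g * C.α (mA ^ i.val * mA' ^ j.val) * C.g⁻¹ =
      (C.g * C.α mA * C.g⁻¹) ^ i.val * (C.g * C.α mA' * C.g⁻¹) ^ j.val by
      rw [conj_pow, conj_pow, map_mul, map_pow, map_pow]; group, hgA, hgA', ← map_pow, ← map_pow,
      ← map_mul]
    exact congrArg C.α (by revert i j; decide +kernel)
  have hclos : ∀ i j i' j' : Fin 2, ∃ a b : Fin 2,
      mA ^ i.val * mA' ^ j.val * (mA ^ i'.val * mA' ^ j'.val) = mA ^ a.val * mA' ^ b.val := by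
    decide +kernel
  let T : Subgroup G :=
    { carrier := {x | ∃ i j k : Fin 2, x = el i j k}
      one_mem' := ⟨0, 0, 0, by simp [el]⟩
      mul_mem' := by
        rintro _ _ ⟨i, j, k, rfl⟩ ⟨i', j', k', rfl⟩
        rcases fin2_cases k with rfl | rfl
        · obtain ⟨a, b, h⟩ := hclos i j i' j'
          exact ⟨a, b, k', by simp [el, ← mul_assoc, ← map_mul, h]⟩
        · obtain ⟨a, b, h⟩ := hclos i j j' i'
          rcases fin2_cases k' with rfl | rfl
          · refine ⟨a, b, 1, ?_⟩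
            simp only [el, Fin.val_one, Fin.val_zero, pow_one, pow_zero, mul_one]
            rw [mul_assoc, hsw, ← mul_assoc, ← map_mul, h]
          · refine ⟨a, b, 0, ?_⟩
            simp only [el, Fin.val_one, Fin.val_zero, pow_one, pow_zero, mul_one]
            rw [mul_assoc, ← mul_assoc C.g, hsw, mul_assoc _ C.g, C.gsq, mul_one, ← map_mul, h]
      inv_mem' := by
        rintro _ ⟨i, j, k, rfl⟩
        have hi : (C.α (mA ^ i.val * mA' ^ j.val))⁻¹ = C.α (mA ^ i.val * mA' ^ j.val) := by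
          rw [← map_inv]; exact congrArg C.α (by revert i j; decide +kernel)
        rcases fin2_cases k with rfl | rfl
        · exact ⟨i, j, 0, by simp only [el, Fin.val_zero, pow_zero, mul_one]; exact hi⟩
        · exact ⟨j, i, 1, by
            simp only [el, Fin.val_one, pow_one]
            rw [mul_inv_rev, C.ginv, hi, hsw]⟩ }
  have hg1 : C.g ∉ C.α.range := by
    intro h
    rw [C.range_eq] at h
    have h' := conj_mem_zpowers h
    rw [C.gz] at h'
    rcases zpowers_three (by rw [← map_pow, mZ_cube, map_one]) h' with e | e | e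
    · rw [← map_one C.α] at e; exact absurd (C.inj e) (by decide +kernel)
    · exact absurd (C.inj e) (by decide +kernel)
    · rw [← map_inv] at e; exact absurd (C.inj e) (by decide +kernel)
  have helinj : ∀ i j k i' j' k', el i j k = el i' j' k' → i = i' ∧ j = j' ∧ k = k' := by
    intro i j k i' j' k' h
    have hk : k = k' := by
      rcases fin2_cases k with rfl | rfl <;>
        rcases fin2_cases k' with rfl | rfl
      · rfl
      · simp only [el, Fin.val_zero, Fin.val_one, pow_zero, pow_one, mul_one] at h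
        exact absurd (MonoidHom.mem_range.2
          ⟨(mA ^ i'.val * mA' ^ j'.val)⁻¹ * (mA ^ i.val * mA' ^ j.val),
            by rw [map_mul C.α, map_inv, h, inv_mul_cancel_left]⟩) hg1
      · simp only [el, Fin.val_zero, Fin.val_one, pow_zero, pow_one, mul_one] at h
        exact absurd (MonoidHom.mem_range.2
          ⟨(mA ^ i.val * mA' ^ j.val)⁻¹ * (mA ^ i'.val * mA' ^ j'.val),
            by rw [map_mul C.α, map_inv, ← h, inv_mul_cancel_left]⟩) hg1
      · rfl
    subst hk
    have h' := C.inj (mul_right_cancel h)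
    have k2 : ∀ i j i' j' : Fin 2, mA ^ i.val * mA' ^ j.val = mA ^ i'.val * mA' ^ j'.val →
        i = i' ∧ j = j' := by decide +kernel
    exact ⟨(k2 _ _ _ _ h').1, (k2 _ _ _ _ h').2, rfl⟩
  have hT : Nat.card T = 8 := by
    have h : Nat.card T = Nat.card (Fin 2 × Fin 2 × Fin 2) := by
      refine Nat.card_congr (Equiv.ofBijective (fun q =>
        (⟨el q.1 q.2.1 q.2.2, q.1, q.2.1, q.2.2, rfl⟩ : T)) ⟨?_, ?_⟩).symm
      · intro q r h
        obtain ⟨h1, h2, h3⟩ := helinj _ _ _ _ _ _ (congrArg Subtype.val h :)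
        exact Prod.ext h1 (Prod.ext h2 h3)
      · rintro ⟨x, i, j, k, rfl⟩
        exact ⟨(i, j, k), rfl⟩
    simp [h]
  have hTp : IsPGroup 2 T := IsPGroup.of_card (n := 3) (by rw [hT]; norm_num)
  obtain ⟨S, hTS⟩ := hTp.exists_le_sylow
  have hST : (S : Subgroup G) = T :=
    (eq_of_le_of_card_ge hTS (by rw [hT]; exact hS _ S.2)).symm
  have hT0p : IsPGroup 2 T0 := IsPGroup.of_card (n := 3) (by rw [hT0]; norm_num)
  obtain ⟨S0, hS0⟩ := hT0p.exists_le_sylow
  obtain ⟨h, hh⟩ := MulAction.exists_smul_eq G S0 S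
  have hin : ∀ x ∈ T0, h * x * h⁻¹ ∈ T := by
    intro x hx
    rw [← hST, ← hh, Sylow.coe_subgroup_smul]
    exact ⟨x, hS0 hx, by simp⟩
  -- the conjugates of `a` and `b` fall into `{a, a', x}`
  have hcl : ∀ m : LK, (∃ p : LK, p * mA * p⁻¹ = m) → C.α m ∈ T0 → m * m = 1 →
      h * C.α m * h⁻¹ ∈ ({C.α mA, C.α mA', C.α mX} : Set G) := by
    intro m hp hm hm2
    obtain ⟨p, hp⟩ := hp
    obtain ⟨i, j, k, he⟩ := hin _ hm
    have hconj : h * C.α p * C.α mA * (h * C.α p)⁻¹ = el i j k := by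
      rw [← he, ← hp, map_mul, map_mul, map_inv]; group
    have hne1 : el i j k ≠ 1 := by
      rw [← he]
      intro e
      rw [conj_eq_one_iff, ← map_one C.α] at e
      have := C.inj e
      rw [← hp, conj_eq_one_iff] at this
      exact absurd this (by decide +kernel)
    have hsq : el i j k * el i j k = 1 := by
      rw [← he, show h * C.α m * h⁻¹ * (h * C.α m * h⁻¹) = h * (C.α m * C.α m) * h⁻¹ by group,
        ← map_mul, hm2, map_one, mul_one, mul_inv_cancel]
    rw [he]
    rcases fin2_cases k with rfl | rfl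
    · have k2 : ∀ i j : Fin 2, mA ^ i.val * mA' ^ j.val = 1 ∨ mA ^ i.val * mA' ^ j.val = mA ∨
          mA ^ i.val * mA' ^ j.val = mA' ∨ mA ^ i.val * mA' ^ j.val = mX := by decide +kernel
      rcases k2 i j with h1 | h1 | h1 | h1
      · exact absurd (by simp only [el, Fin.val_zero, pow_zero, mul_one, h1, map_one]) hne1
      all_goals simp only [el, Fin.val_zero, pow_zero, mul_one, h1, Set.mem_insert_iff,
        Set.mem_singleton_iff, true_or, or_true]
    · exfalso
      simp only [el, Fin.val_one, pow_one] at hsq hconj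
      rw [mul_assoc, ← mul_assoc C.g, hsw, mul_assoc _ C.g, C.gsq, mul_one, ← map_mul,
        ← map_one C.α] at hsq
      have k2 : ∀ i j : Fin 2, mA ^ i.val * mA' ^ j.val * (mA ^ j.val * mA' ^ i.val) = 1 →
          mA ^ i.val * mA' ^ j.val = 1 ∨ mA ^ i.val * mA' ^ j.val = mX := by decide +kernel
      rcases k2 i j (C.inj hsq) with h1 | h1 <;> rw [h1] at hconj
      · refine C.not_conj_of_off (mZ * mZ') (by decide +kernel) (by decide +kernel) C.card_y ?_ hconj
        rw [map_one, one_mul]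
        refine mul_inv_eq_iff_eq_mul.1 ?_
        rw [map_mul, show C.g * (C.α mZ * C.α mZ') * C.g⁻¹ =
          (C.g * C.α mZ * C.g⁻¹) * (C.g * C.α mZ' * C.g⁻¹) by group, C.gz, C.gz']
        exact C.α_comm (by decide +kernel)
      · refine C.not_conj_of_off (dd 1 (-1)) (by decide +kernel) (by decide +kernel) C.card_dd_off
          ?_ hconj
        refine mul_inv_eq_iff_eq_mul.1 ?_
        rw [show dd 1 (-1) = mZ * mZ'⁻¹ by decide +kernel, map_mul, map_inv,
          show C.α mX * C.g * (C.α mZ * (C.α mZ')⁻¹) * (C.α mX * C.g)⁻¹ =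
          C.α mX * ((C.g * C.α mZ * C.g⁻¹) * (C.g * C.α mZ' * C.g⁻¹)⁻¹) * (C.α mX)⁻¹ by group,
          C.gz, C.gz', ← map_inv, ← map_inv, ← map_inv, ← map_mul, ← map_mul, ← map_mul,
          ← map_mul]
        exact congrArg C.α (by decide +kernel)
  exact hE h (hcl mA ⟨1, by simp⟩ ⟨1, 0, 0, congrArg C.α (by decide +kernel)⟩ (by decide +kernel))
    (hcl mB (Exists.elim mR_conj.2.2 fun i hi => ⟨mR ^ i.val, hi⟩) hmBT (by decide +kernel))

end Ctx

end CfsgLib.ThreeLocalEight
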