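import Cfsg.Agent.ThreeLocalEight.Empty
import Cfsg.Agent.BPres.Carmichael
import Mathlib.GroupTheory.SpecificGroups.Alternating.Simple

/-!
The homomorphism from `Alt(8)` extending the local data.
-/

set_option autoImplicit false
set_option maxRecDepth 100000

namespace CfsgLib.ThreeLocalEight

open Subgroup Equiv Equiv.Perm CfsgLib.BPres

universe u

/-- The eight points. -/
def pts : Fin 3 ⊕ Fin 5 ≃ Fin 8 where
  toFun := Sum.elim ![0, 1, 2] ![5, 6, 7, 3, 4]
  invFun := ![.inl 0, .inl 1, .inl 2, .inr 3, .inr 4, .inr 0, .inr 1, .inr 2]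
  left_inv := by intro x; rcases x with x | x <;> revert x <;> decide
  right_inv := by intro x; revert x; decide

/-- The embedding of `LK` into `Alt(8)`. -/
def emb : LK →* alternatingGroup (Fin 8) where
  toFun m := ⟨pts.permCongr (Equiv.Perm.sumCongr m.1.1 m.1.2), by
    rw [mem_alternatingGroup, Equiv.Perm.sign_permCongr, Equiv.Perm.sign_sumCongr]
    exact lk_sign m⟩
  map_one' := Subtype.ext (by
    show pts.permCongr (Equiv.Perm.sumCongr 1 1) = 1
    rw [Equiv.Perm.sumCongr_one]; exact pts.permCongrHom.map_one)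
  map_mul' m n := Subtype.ext (by
    show pts.permCongr (Equiv.Perm.sumCongr (m.1.1 * n.1.1) (m.1.2 * n.1.2)) = _
    rw [← Equiv.Perm.sumCongr_mul]; exact pts.permCongrHom.map_mul _ _)

theorem emb_apply (m : LK) (x : Fin 8) :
    (emb m : Perm (Fin 8)) x = pts (Equiv.Perm.sumCongr m.1.1 m.1.2 (pts.symm x)) := rfl

theorem pts_inr_ne (j : Fin 5) : pts (.inr j) ≠ 0 ∧ pts (.inr j) ≠ 1 := by
  revert j; decide

theorem emb_even_fix (p : Perm (Fin 5)) (hp : Perm.sign (1 : Perm (Fin 3)) * Perm.sign p = 1) :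
    (emb (pk 1 p hp) : Perm (Fin 8)) 0 = 0 ∧ (emb (pk 1 p hp) : Perm (Fin 8)) 1 = 1 ∧
      (emb (pk 1 p hp) : Perm (Fin 8)) 2 = 2 ∧
      ∀ j, (emb (pk 1 p hp) : Perm (Fin 8)) (pts (.inr j)) = pts (.inr (p j)) := by
  refine ⟨?_, ?_, ?_, fun j => ?_⟩
  · rw [emb_apply, show pts.symm 0 = .inl 0 from rfl]; rfl
  · rw [emb_apply, show pts.symm 1 = .inl 1 from rfl]; rfl
  · rw [emb_apply, show pts.symm 2 = .inl 2 from rfl]; rfl
  · rw [emb_apply, Equiv.symm_apply_apply]; rfl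

theorem gam_a : ∀ k : Fin 2, (swap 0 1 * swap 3 4) * (gam (![3, 4] k))⁻¹ * (swap 0 1 * swap 3 4) =
    (swap 0 1 * swap 3 4) * swap 0 1 * gam (![3, 4] k) * swap 0 1 * (swap 0 1 * swap 3 4) := by
  decide +kernel

theorem fst_decomp : ∀ s : Perm (Fin 3), ∃ a : Fin 3, ∃ e : Fin 2, s = c3 ^ a.val * t3 ^ e.val := by
  decide

theorem pts_cases : ∀ i : Fin 8, i ≠ 0 → i ≠ 1 → i = 2 ∨ ∃ j, i = pts (.inr j) := by decide

namespace Ctx

variable {G : Type u} [Group G] (C : Ctx G)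

/-- `α (1, π)`. -/
def act (p : Perm (Fin 5)) : G :=
  if h : Perm.sign p = 1 then C.α (pk 1 p (by rw [h]; simp)) else 1

theorem act_eq {p : Perm (Fin 5)} (h : Perm.sign p = 1)
    (h' : Perm.sign (1 : Perm (Fin 3)) * Perm.sign p = 1) : C.act p = C.α (pk 1 p h') :=
  dif_pos h

theorem act_mul {p q : Perm (Fin 5)} (hp : Perm.sign p = 1) (hq : Perm.sign q = 1) :
    C.act (p * q) = C.act p * C.act q := by
  rw [C.act_eq hp (by rw [hp]; simp), C.act_eq hq (by rw [hq]; simp),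
    C.act_eq (show Perm.sign (p * q) = 1 by rw [map_mul, hp, hq, one_mul])
      (by simp [hp, hq]), ← map_mul C.α]
  exact congrArg C.α (lk_ext (by simp [pk]) (by simp [pk]))

theorem act_z {p : Perm (Fin 5)} : Commute (C.act p) (C.α mZ) := by
  unfold act
  split
  · exact C.α_comm (lk_ext (by simp [pk, mZ]) (by simp [pk, mZ]))
  · exact Commute.one_left _

/-- The 3-cycle with third point `j`. -/
noncomputable def cyj (γ : G) (j : Fin 5) : G :=
  C.act (Classical.choose (move_three j)) * γ * (C.act (Classical.choose (move_three j)))⁻¹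

theorem exists_hom [Finite G] : ∃ φ : alternatingGroup (Fin 8) →* G, Function.Injective φ ∧
    (∀ m, φ (emb m) = C.α m) ∧ C.g ∈ φ.range := by
  classical
  rcases C.dichotomy with ⟨k, hk⟩ | hall
  swap
  · exact (C.not_all_comm hall).elim
  set γ := C.gam3 k
  have hG : ∀ m : LK, C.g * C.α m * C.g⁻¹ = MulAut.conj C.g (C.α m) := fun m => rfl
  obtain ⟨hr1, hr2, hr3, hr4, hr5⟩ := gam_rels k
  set γ0 : LK := pk 1 (gam (![3, 4] k)) (gam_sign k) with hγ0
  have hγ : γ = MulAut.conj C.g (C.α γ0) := rfl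
  have hgz : MulAut.conj C.g (C.α mZ') = C.α mZ := C.gz'
  have hgz1 : MulAut.conj C.g (C.α mZ) = C.α mZ' := C.gz
  have hgA : MulAut.conj C.g (C.α mA) = C.α mA' := C.g_mA
  have hgX : MulAut.conj C.g (C.α mX) = C.α mX := by
    show C.g * C.α mX * C.g⁻¹ = C.α mX
    rw [C.gx, mul_inv_cancel_right]
  -- `γ` commutes with the point stabilizer
  have hV : Commute (C.act (swap 0 4 * swap 1 2)) γ := by
    rw [C.act_eq (by decide +kernel) (by decide +kernel)]
    exact (hk : Commute γ (C.α mV)).symm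
  have hc : Commute (C.act c5) γ := by
    rw [C.act_eq (by decide +kernel) (by decide +kernel), show pk 1 c5 _ = mZ' from rfl, ← hgz1, hγ]
    refine Commute.map (C.α_comm (lk_ext ?_ ?_) : Commute _ _) _
    · simp [hγ0, pk, mZ]
    · simp [hγ0, pk, mZ]
  have hcs : Perm.sign c5 = 1 := by decide +kernel
  have hvs : Perm.sign (swap 0 4 * swap 1 2 : Perm (Fin 5)) = 1 := by decide +kernel
  have hstab : ∀ t : Perm (Fin 5), Perm.sign t = 1 → t 3 = 3 → Commute (C.act t) γ := by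
    intro t ht h3
    have hcp : ∀ i : ℕ, Commute (C.act (c5 ^ i)) γ := by
      intro i
      induction i with
      | zero => rw [pow_zero, C.act_eq (map_one _) (by simp), show pk 1 1 _ = 1 from rfl, map_one]
                exact Commute.one_left _
      | succ i ih =>
        rw [pow_succ, C.act_mul (by rw [map_pow, hcs, one_pow]) hcs]
        exact ih.mul_left hc
    have hci : Commute (C.act c5⁻¹) γ := by
      rw [show c5⁻¹ = c5 ^ 2 by decide +kernel]; exact hcp 2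
    have hcis : Perm.sign (c5⁻¹) = 1 := by rw [map_inv, hcs, inv_one]
    obtain ⟨i, hi⟩ := stab_three t ⟨ht, h3⟩
    have hti : Perm.sign (t * c5 ^ i.val) = 1 := by rw [map_mul, ht, map_pow, hcs, one_pow, one_mul]
    have h1 : Commute (C.act (t * c5 ^ i.val)) γ := by
      rcases hi with h | h | h | h <;> rw [h]
      · rw [C.act_eq (map_one _) (by simp), show pk 1 1 _ = 1 from rfl, map_one]
        exact Commute.one_left _
      · exact hV
      · rw [C.act_mul (by rw [map_mul, hcs, hvs, one_mul]) hcis, C.act_mul hcs hvs]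
        exact (hc.mul_left hV).mul_left hci
      · rw [C.act_mul (by rw [map_mul, hcis, hvs, one_mul]) hcs, C.act_mul hcis hvs]
        exact (hci.mul_left hV).mul_left hc
    rw [C.act_mul ht (by rw [map_pow, hcs, one_pow])] at h1
    have := h1.mul_left (hcp i.val).inv_left
    rwa [mul_inv_cancel_right] at this
  -- the cycles
  have hcyj : ∀ (p : Perm (Fin 5)), Perm.sign p = 1 →
      C.cyj γ (p 3) = C.act p * γ * (C.act p)⁻¹ := by
    intro p hp
    set q := Classical.choose (move_three (p 3))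
    obtain ⟨hq, hq3⟩ := Classical.choose_spec (move_three (p 3))
    have hr : Perm.sign (p⁻¹ * q) = 1 := by rw [map_mul, map_inv, hp, hq]; simp
    have h3 : (p⁻¹ * q) 3 = 3 := by
      rw [Perm.mul_apply, hq3]
      exact p.symm_apply_apply 3
    have e : C.act q = C.act p * C.act (p⁻¹ * q) := by
      rw [← C.act_mul hp hr, mul_inv_cancel_left]
    show C.act q * γ * (C.act q)⁻¹ = _
    rw [e, mul_inv_rev, show C.act p * C.act (p⁻¹ * q) * γ * ((C.act (p⁻¹ * q))⁻¹ * (C.act p)⁻¹) =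
      C.act p * (C.act (p⁻¹ * q) * γ * (C.act (p⁻¹ * q))⁻¹) * (C.act p)⁻¹ by group,
      (hstab _ hr h3).eq, mul_inv_cancel_right]
  have hconj : ∀ (p : Perm (Fin 5)), Perm.sign p = 1 → ∀ j,
      C.act p * C.cyj γ j * (C.act p)⁻¹ = C.cyj γ (p j) := by
    intro p hp j
    obtain ⟨q, hq, rfl⟩ := move_three j
    rw [← Perm.mul_apply, hcyj q hq, hcyj (p * q) (by rw [map_mul, hp, hq, one_mul]), C.act_mul hp hq]
    group
  have hγ3 : C.cyj γ 3 = γ := by
    have := hcyj 1 (map_one _)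
    rw [C.act_eq (map_one _) (by simp), show pk 1 1 _ = 1 from rfl, map_one] at this
    simpa using this
  set a0 : Perm (Fin 5) := swap 0 1 * swap 3 4
  have ha0 : Perm.sign a0 = 1 := by decide +kernel
  -- the element with third point 4, inside `g A g⁻¹`
  set δ0 : LK := mA * γ0⁻¹ * mA with hδ0
  have h4 : C.cyj γ 4 = MulAut.conj C.g (C.α δ0) := by
    have h := hcyj a0 ha0
    rw [show a0 3 = 4 by decide +kernel, C.act_eq ha0 (by decide +kernel),
      show pk 1 a0 _ = mA from rfl, ← map_inv C.α, show mA⁻¹ = mA by decide +kernel] at h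
    have e : mA' * (mX * γ0 * mX) * mA' = mA' * γ0⁻¹ * mA' := by
      have hx : mX * γ0 * mX = γ0⁻¹ := lk_ext
        (by simp [hγ0, mX, pk, t3]) (by
          simp only [hγ0, mX, pk, Subgroup.coe_mul, Prod.snd_mul, Subgroup.coe_inv, Prod.snd_inv]
          rw [hr3, mul_assoc, swap_mul_self, mul_one])
      rw [hx]
    rw [h, show C.α mA = C.α mA' * C.α mX by rw [← map_mul]; exact congrArg C.α (by decide +kernel)]
    conv_lhs =>
      arg 2
      rw [← map_mul, show mA' * mX = mX * mA' by decide +kernel, map_mul]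
    rw [hγ, hδ0, map_mul C.α, map_mul C.α, map_mul (MulAut.conj C.g), map_mul (MulAut.conj C.g),
      hgA, map_inv C.α]
    rw [show C.α mA' * C.α mX * MulAut.conj C.g (C.α γ0) * (C.α mX * C.α mA') =
      C.α mA' * (C.α mX * MulAut.conj C.g (C.α γ0) * C.α mX) * C.α mA' by group]
    congr 2
    conv_lhs => rw [← hgX, ← map_mul, ← map_mul, ← map_mul, ← map_mul]
    rw [← map_inv C.α]
    refine congrArg (fun m => MulAut.conj C.g (C.α m)) (lk_ext ?_ ?_)
    · simp [hγ0, mX, pk, t3]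
    · simp only [hγ0, mX, pk, Subgroup.coe_mul, Prod.snd_mul, Subgroup.coe_inv, Prod.snd_inv]
      rw [hr3, mul_assoc, swap_mul_self, mul_one]
  let Z : Fin 8 → G := fun i => (pts.symm i).elim (fun _ => C.α mZ) (C.cyj γ)
  have hZ2 : Z 2 = C.α mZ := rfl
  have hZj : ∀ j, Z (pts (.inr j)) = C.cyj γ j := fun j => by
    show (pts.symm (pts (.inr j))).elim _ _ = _
    rw [Equiv.symm_apply_apply]; rfl
  have hγcube : γ ^ 3 = 1 := by
    rw [hγ, ← map_pow, ← map_pow, show γ0 ^ 3 = 1 from lk_ext (by simp [hγ0, pk])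
      (by simpa [hγ0, pk] using hr1), map_one, map_one]
  have hzγ : (C.α mZ * γ) ^ 2 = 1 := by
    rw [← hgz, hγ, ← map_mul, ← map_pow, ← map_mul, ← map_pow,
      show (mZ' * γ0) ^ 2 = 1 from lk_ext (by simp [hγ0, pk, mZ'])
        (by simpa [hγ0, pk, mZ'] using hr2), map_one, map_one]
  have h34 : (γ * C.cyj γ 4) ^ 2 = 1 := by
    rw [h4, hγ, ← map_mul, ← map_pow, ← map_mul, ← map_pow,
      show (γ0 * δ0) ^ 2 = 1 from lk_ext (by simp [hγ0, hδ0, pk, mA])
        (by simpa [hγ0, hδ0, pk, mA] using hr4), map_one, map_one]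
  have hcj : ∀ (x y : G) (n : ℕ), (x * y * x⁻¹) ^ n = x * y ^ n * x⁻¹ := fun x y n => conj_pow
  have hh3 : ∀ i : Fin 8, i ≠ 0 → i ≠ 1 → Z i ^ 3 = 1 := by
    intro i h0 h1
    rcases pts_cases i h0 h1 with rfl | ⟨j, rfl⟩
    · rw [hZ2, ← map_pow, mZ_cube, map_one]
    · obtain ⟨p, hp, rfl⟩ := move_three j
      rw [hZj, hcyj p hp, conj_pow, hγcube, mul_one, mul_inv_cancel]
  have hzj : ∀ j, (C.α mZ * C.cyj γ j) ^ 2 = 1 := by
    intro j
    obtain ⟨p, hp, rfl⟩ := move_three j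
    rw [hcyj p hp, show C.α mZ * (C.act p * γ * (C.act p)⁻¹) =
      C.act p * (C.α mZ * γ) * (C.act p)⁻¹ by
        rw [← mul_assoc, ← mul_assoc, (C.act_z (p := p)).eq.symm]; group,
      conj_pow, hzγ, mul_one, mul_inv_cancel]
  have hh2 : ∀ i j : Fin 8, i ≠ 0 → i ≠ 1 → j ≠ 0 → j ≠ 1 → i ≠ j → (Z i * Z j) ^ 2 = 1 := by
    intro i j hi0 hi1 hj0 hj1 hij
    rcases pts_cases i hi0 hi1 with rfl | ⟨a, rfl⟩ <;> rcases pts_cases j hj0 hj1 with rfl | ⟨b, rfl⟩
    · exact absurd rfl hij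
    · rw [hZ2, hZj]; exact hzj b
    · rw [hZ2, hZj]
      rw [show C.cyj γ a * C.α mZ = (C.α mZ)⁻¹ * (C.α mZ * C.cyj γ a) * (C.α mZ)⁻¹⁻¹ by group,
        conj_pow, hzj, mul_one, mul_inv_cancel]
    · rw [hZj, hZj]
      obtain ⟨p, hp, rfl, rfl⟩ := move_pair a b fun e => hij (by rw [e])
      rw [← hconj p hp 4, hcyj p hp, show C.act p * γ * (C.act p)⁻¹ *
        (C.act p * C.cyj γ 4 * (C.act p)⁻¹) = C.act p * (γ * C.cyj γ 4) * (C.act p)⁻¹ by group,
        conj_pow, h34, mul_one, mul_inv_cancel]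
  obtain ⟨φ, hφ⟩ := carmichael (α := Fin 8) (a := 0) (b := 1) (by decide) Z hh3 hh2
  have hφz : φ (cyc 0 1 2) = C.α mZ := hφ 2 (by decide) (by decide)
  have hφj : ∀ j, φ (cyc 0 1 (pts (.inr j))) = C.cyj γ j := fun j =>
    (hφ _ (pts_inr_ne j).1 (pts_inr_ne j).2).trans (hZj j)
  have hinj : Function.Injective φ := by
    rw [← MonoidHom.ker_eq_bot_iff]
    haveI := alternatingGroup.isSimpleGroup (α := Fin 8) (by simp)
    rcases φ.normal_ker.eq_bot_or_eq_top with h | h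
    · exact h
    · exfalso
      have h1 : φ (cyc 0 1 2) = 1 := MonoidHom.mem_ker.1 (h ▸ mem_top _)
      exact C.z_ne_one (hφz.symm.trans h1)
  have hA' : C.α mA' = γ * C.cyj γ 4 ^ 2 * γ := by
    rw [← hgA, h4, hγ, ← map_pow, ← map_pow, ← map_mul, ← map_mul, ← map_mul, ← map_mul]
    exact congrArg (fun m => MulAut.conj C.g (C.α m)) (lk_ext (by simp [hγ0, hδ0, pk, mA])
      (by simpa [hγ0, hδ0, pk, mA] using hr5))
  have hA'φ : φ (emb mA') = C.α mA' := by
    rw [show emb mA' = cyc 0 1 (pts (.inr 3)) * cyc 0 1 (pts (.inr 4)) ^ 2 * cyc 0 1 (pts (.inr 3))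
      by decide +kernel, map_mul, map_mul, map_pow, hφj, hφj, hγ3, hA']
  have hZφ : φ (emb mZ) = C.α mZ := by
    rw [show emb mZ = cyc 0 1 2 by decide +kernel, hφz]
  -- nothing centralises all the cycles
  have hcent : ∀ x : G, Commute x (C.α mZ) → (∀ j, Commute x (C.cyj γ j)) → x = 1 := by
    intro x hz hj
    obtain ⟨m, rfl⟩ := C.mem_range_of_comm hz.eq
    have hmA' : Commute (C.α m) (C.α mA') := by
      rw [hA']
      exact (((hγ3 ▸ hj 3 : Commute (C.α m) γ)).mul_right ((hj 4).pow_right 2)).mul_right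
        (hγ3 ▸ hj 3)
    have hmz : m * mZ = mZ * m := C.inj (by rw [map_mul, map_mul]; exact hz.eq)
    obtain ⟨hs, hsign⟩ := cent_mZ m hmz
    have h1 : m.1.1 = 1 := by
      have e := C.fst_comm hmA'.eq
      have h' : m.1.1 * c3 = c3 * m.1.1 := congrArg (fun x : LK => x.1.1) hmz
      exact fst_fix _ ⟨h', e⟩
    have hm : C.α m = C.act m.1.2 := by
      rw [C.act_eq hsign (by rw [hsign]; simp)]
      exact congrArg C.α (lk_ext h1 rfl)
    have h2 : m.1.2 = 1 := by
      ext1 j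
      have e := hconj _ hsign j
      rw [← hm, (hj j).eq, mul_inv_cancel_right, ← hφj, ← hφj] at e
      have e2 := congrArg (fun c : alternatingGroup (Fin 8) => (c : Perm (Fin 8)) 1) (hinj e)
      simp only [cyc_apply_b (show (0 : Fin 8) ≠ 1 by decide) (pts_inr_ne _).1.symm] at e2
      exact (Sum.inr_injective (pts.injective e2)).symm
    rw [show m = 1 from lk_ext h1 h2, map_one]
  have hact : ∀ (p : Perm (Fin 5)) (hp : Perm.sign p = 1)
      (hp' : Perm.sign (1 : Perm (Fin 3)) * Perm.sign p = 1),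
      φ (emb (pk 1 p hp')) = C.α (pk 1 p hp') := by
    intro p hp hp'
    rw [← C.act_eq hp hp']
    obtain ⟨f0, f1, f2, fj⟩ := emb_even_fix p hp'
    set E := emb (pk 1 p hp')
    refine (inv_mul_eq_one.1 (hcent ((C.act p)⁻¹ * φ E) ?_ fun j => ?_)).symm
    · have h1 : φ E * C.α mZ * (φ E)⁻¹ = C.α mZ := by
        rw [← hφz, ← map_inv, ← map_mul, ← map_mul, cyc_conj _ (by decide) (by decide), f0, f1, f2]
      exact (C.act_z (p := p)).inv_left.mul_left (mul_inv_eq_iff_eq_mul.1 h1)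
    · have h1 : φ E * C.cyj γ j * (φ E)⁻¹ = C.act p * C.cyj γ j * (C.act p)⁻¹ := by
        rw [hconj p hp j, ← hφj, ← hφj, ← map_inv, ← map_mul, ← map_mul,
          cyc_conj _ (show (0 : Fin 8) ≠ 1 by decide) (pts_inr_ne j).1.symm, f0, f1, fj]
      show (C.act p)⁻¹ * φ E * C.cyj γ j = C.cyj γ j * ((C.act p)⁻¹ * φ E)
      calc (C.act p)⁻¹ * φ E * C.cyj γ j = (C.act p)⁻¹ * (φ E * C.cyj γ j * (φ E)⁻¹) * φ E := by group
        _ = (C.act p)⁻¹ * (C.act p * C.cyj γ j * (C.act p)⁻¹) * φ E := by rw [h1]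
        _ = C.cyj γ j * ((C.act p)⁻¹ * φ E) := by group
  have hall : ∀ m, φ (emb m) = C.α m := by
    intro m
    obtain ⟨a, e, hs⟩ := fst_decomp m.1.1
    set h := (mZ ^ a.val * mA' ^ e.val)⁻¹ * m with hh
    have h1 : h.1.1 = 1 := by simp [hh, hs, mZ, mA', pk]
    have hsg : Perm.sign h.1.2 = 1 := by simpa [h1] using lk_sign h
    have he : h = pk 1 h.1.2 (by rw [hsg]; simp) := lk_ext h1 rfl
    have hm : m = mZ ^ a.val * mA' ^ e.val * h := by rw [hh, mul_inv_cancel_left]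
    have key : ∀ x y : LK, φ (emb x) = C.α x → φ (emb y) = C.α y →
        φ (emb (x * y)) = C.α (x * y) := fun x y hx hy => by
      rw [map_mul emb, map_mul φ, hx, hy, map_mul C.α]
    have kpow : ∀ (x : LK) (n : ℕ), φ (emb x) = C.α x → φ (emb (x ^ n)) = C.α (x ^ n) :=
      fun x n hx => by rw [map_pow emb, map_pow φ, hx, map_pow C.α]
    rw [hm]
    refine key _ _ (key _ _ (kpow _ _ hZφ) (kpow _ _ hA'φ)) ?_
    rw [he]
    exact hact _ hsg _
  refine ⟨φ, hinj, hall, ?_⟩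
  let w : alternatingGroup (Fin 8) :=
    ⟨swap 0 5 * swap 1 6 * swap 2 7 * swap 3 4, by rw [mem_alternatingGroup]; decide +kernel⟩
  have hw1 : φ w * C.α mZ * (φ w)⁻¹ = C.α mZ' := by
    rw [← hall, ← hall, ← map_inv, ← map_mul, ← map_mul]
    exact congrArg φ (by decide +kernel)
  have hw2 : φ w * C.α mZ' * (φ w)⁻¹ = C.α mZ := by
    rw [← hall, ← hall, ← map_inv, ← map_mul, ← map_mul]
    exact congrArg φ (by decide +kernel)
  obtain ⟨a, b, hab⟩ := C.cD (C.g * φ w)
    (mul_inv_eq_iff_eq_mul.1 (by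
      rw [show C.g * φ w * C.α mZ * (C.g * φ w)⁻¹ = C.g * (φ w * C.α mZ * (φ w)⁻¹) * C.g⁻¹ by group,
        hw1, C.gz']))
    (mul_inv_eq_iff_eq_mul.1 (by
      rw [show C.g * φ w * C.α mZ' * (C.g * φ w)⁻¹ = C.g * (φ w * C.α mZ' * (φ w)⁻¹) * C.g⁻¹ by group,
        hw2, C.gz]))
  exact MonoidHom.mem_range.2 ⟨emb (dd a b) * w⁻¹, by
    rw [map_mul, hall, ← hab, map_inv, mul_inv_cancel_right]⟩

end Ctx

end CfsgLib.ThreeLocalEight
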