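import Cfsg.Agent.ThreeLocalEight.Setup
import Cfsg.Agent.Solvable.CoprimeAbelian
import Mathlib.GroupTheory.Transfer
import Mathlib.GroupTheory.PGroup

/-!
The centralizer of a four-group of `C(z)`: either it is contained in `C(z)`, or it contains an
element of a second four-group.
-/

set_option autoImplicit false
set_option maxRecDepth 100000

namespace CfsgLib.ThreeLocalEight

open Subgroup Equiv Equiv.Perm

universe u

theorem mZ_cube : mZ ^ 3 = 1 := by decide +kernel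

theorem mZ'_cube : mZ' ^ 3 = 1 := by decide +kernel

namespace Ctx

variable {G : Type u} [Group G] (C : Ctx G)

theorem ginv : C.g⁻¹ = C.g := inv_eq_of_mul_eq_one_right C.gsq

/-- The Sylow 3-subgroup. -/
def D : Subgroup G where
  carrier := {x | ∃ a b : Fin 3, x = C.α (dd a b)}
  one_mem' := ⟨0, 0, by rw [show dd 0 0 = 1 by decide +kernel, map_one]⟩
  mul_mem' := by
    rintro _ _ ⟨a, b, rfl⟩ ⟨a', b', rfl⟩
    exact ⟨a + a', b + b', by rw [← map_mul, dd_mul]⟩
  inv_mem' := by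
    rintro _ ⟨a, b, rfl⟩
    exact ⟨-a, -b, by rw [← map_inv, dd_inv]⟩

theorem z_mem_D : C.α mZ ∈ C.D := ⟨1, 0, by rw [show dd 1 0 = mZ by decide +kernel]⟩

theorem z'_mem_D : C.α mZ' ∈ C.D := ⟨0, 1, by rw [show dd 0 1 = mZ' by decide +kernel]⟩

theorem card_D : Nat.card C.D = 9 := by
  have h : Nat.card C.D = Nat.card (Fin 3 × Fin 3) := by
    refine Nat.card_congr (Equiv.ofBijective (fun q => (⟨C.α (dd q.1 q.2), q.1, q.2, rfl⟩ : C.D))
      ⟨?_, ?_⟩).symm
    · intro q r h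
      obtain ⟨h1, h2⟩ := dd_inj (C.inj (congrArg Subtype.val h :))
      exact Prod.ext h1 h2
    · rintro ⟨x, a, b, rfl⟩
      exact ⟨(a, b), rfl⟩
  simp [h]

theorem D_comm : IsMulCommutative C.D :=
  ⟨⟨fun x y => by
    obtain ⟨a, b, hx⟩ := x.2
    obtain ⟨a', b', hy⟩ := y.2
    apply Subtype.ext
    show (x : G) * y = y * x
    rw [hx, hy, ← map_mul, ← map_mul, dd_mul, dd_mul, add_comm a, add_comm b]⟩⟩

theorem D_not_cyclic : ¬ IsCyclic C.D := by
  intro h
  obtain ⟨x, hx⟩ := h.exists_generator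
  have hx3 : x ^ 3 = 1 := by
    obtain ⟨a, b, hx'⟩ := x.2
    apply Subtype.ext
    rw [SubmonoidClass.coe_pow, hx', ← map_pow]
    have k : ∀ a b : Fin 3, dd a b ^ 3 = 1 := by decide +kernel
    rw [k, map_one]
    rfl
  have h1 := orderOf_eq_card_of_forall_mem_zpowers hx
  have h2 := Nat.le_of_dvd (by norm_num) (orderOf_dvd_of_pow_eq_one hx3)
  rw [C.card_D] at h1
  omega

theorem mem_range_of_normalize {x : G} [Finite G]
    (h : x * C.α mZ * x⁻¹ = C.α mZ ∨ x * C.α mZ * x⁻¹ = (C.α mZ)⁻¹) : ∃ m, C.α m = x := by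
  have : x ∈ C.α.range := by
    rw [C.range_eq]
    refine mem_normalizer_zpowers_of ?_
    rcases h with h | h <;> rw [h]
    · exact mem_zpowers _
    · exact inv_mem (mem_zpowers _)
  exact this

theorem mem_range_of_comm [Finite G] {x : G} (h : x * C.α mZ = C.α mZ * x) : ∃ m, C.α m = x :=
  C.mem_range_of_normalize (Or.inl (mul_inv_eq_iff_eq_mul.2 h))

/-- The elements of `LK` normalising the Sylow subgroup used for the symmetries. -/
theorem diag_normal (m : LK) (hm : m = 1 ∨ m = mA ∨ m = mA' ∨ m = mA * mA') :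
    C.α m ∈ normalizer (C.D : Set G) := by
  have k : ∀ a b : Fin 3, (mA * dd a b * mA⁻¹ = dd a (-b)) ∧ (mA' * dd a b * mA'⁻¹ = dd (-a) b) := by
    decide +kernel
  have hkey : ∀ n : LK, n * n = 1 → (∀ a b, ∃ a' b', n * dd a b * n⁻¹ = dd a' b') →
      C.α n ∈ normalizer (C.D : Set G) := by
    intro n hn2 hn
    have hinv : (C.α n)⁻¹ = C.α n := inv_eq_of_mul_eq_one_right (by rw [← map_mul, hn2, map_one])
    have hfw : ∀ x ∈ C.D, C.α n * x * (C.α n)⁻¹ ∈ C.D := by
      rintro _ ⟨a, b, rfl⟩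
      obtain ⟨a', b', h⟩ := hn a b
      exact ⟨a', b', by rw [← h, map_mul, map_mul, map_inv]⟩
    rw [mem_normalizer_iff]
    refine fun x => ⟨hfw x, fun hx => ?_⟩
    have := hfw _ hx
    rwa [show C.α n * (C.α n * x * (C.α n)⁻¹) * (C.α n)⁻¹ =
      C.α n * C.α n * x * ((C.α n)⁻¹ * (C.α n)⁻¹) by group, hinv, ← map_mul, hn2, map_one, one_mul,
      mul_one] at this
  rcases hm with rfl | rfl | rfl | rfl
  · rw [map_one]; exact one_mem _
  · exact hkey _ (by decide +kernel) fun a b => ⟨_, _, (k a b).1⟩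
  · exact hkey _ (by decide +kernel) fun a b => ⟨_, _, (k a b).2⟩
  · rw [map_mul]
    exact mul_mem (hkey _ (by decide +kernel) fun a b => ⟨_, _, (k a b).1⟩)
      (hkey _ (by decide +kernel) fun a b => ⟨_, _, (k a b).2⟩)

/-- A subgroup of order prime to 3 normalised by `D` has no fixed point of an off-axis element. -/
theorem fixed_off_axis [Finite G] (R : Subgroup G) (h3 : ¬ 3 ∣ Nat.card R)
    (hR : C.D ≤ normalizer (R : Set G)) (a b : Fin 3) (ha : a ≠ 0) (hb : b ≠ 0) (r : G) (hr : r ∈ R)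
    (hc : r * C.α (dd a b) = C.α (dd a b) * r) : r = 1 := by
  obtain ⟨m, hm, hmab⟩ : ∃ m : LK, (m = 1 ∨ m = mA ∨ m = mA' ∨ m = mA * mA') ∧
      m * dd a b * m⁻¹ = mZ * mZ' := by
    rcases fin3_pairs a b ha hb with h | h | h | h <;>
      obtain ⟨h, h'⟩ := h <;> subst h <;> subst h'
    · exact ⟨1, by tauto, by decide +kernel⟩
    · exact ⟨mA', by tauto, by decide +kernel⟩
    · exact ⟨mA, by tauto, by decide +kernel⟩
    · exact ⟨mA * mA', by tauto, by decide +kernel⟩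
  set n := C.α m
  have hn : n ∈ normalizer (C.D : Set G) := C.diag_normal m hm
  set w := n * r * n⁻¹
  have hwc : w * C.α (mZ * mZ') = C.α (mZ * mZ') * w := by
    rw [← hmab, map_mul, map_mul, map_inv]
    calc n * r * n⁻¹ * (n * C.α (dd a b) * n⁻¹) = n * (r * C.α (dd a b)) * n⁻¹ := by group
      _ = n * (C.α (dd a b) * r) * n⁻¹ := by rw [hc]
      _ = n * C.α (dd a b) * n⁻¹ * (n * r * n⁻¹) := by group
  have hwD : ∀ d ∈ C.D, w * d = d * w := by
    intro d hd
    have h1 : w * d * w⁻¹ * d⁻¹ ∈ C.D := by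
      obtain ⟨a', b', rfl⟩ := hd
      obtain ⟨a'', b'', h⟩ := C.cent_y w hwc a' b'
      exact mul_mem ⟨a'', b'', h⟩ (inv_mem ⟨a', b', rfl⟩)
    have h2 : n⁻¹ * (w * d * w⁻¹ * d⁻¹) * n ∈ R := by
      have hd' : n⁻¹ * d * n ∈ C.D := by
        simpa using (mem_normalizer_iff.1 (inv_mem hn) d).1 hd
      have h := mul_mem hr ((mem_normalizer_iff.1 (hR hd') _).1 (inv_mem hr))
      convert h using 1
      simp only [w]; group
    set c := w * d * w⁻¹ * d⁻¹
    have h3c : c ^ 3 = 1 := by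
      obtain ⟨a', b', h⟩ := h1
      have k : ∀ a b : Fin 3, dd a b ^ 3 = 1 := by decide +kernel
      rw [h, ← map_pow, k, map_one]
    have hc1 : c = 1 := by
      by_contra hne
      have ho : orderOf (n⁻¹ * c * n) = 3 := by
        rw [show n⁻¹ * c * n = MulAut.conj n⁻¹ c by simp,
          MulEquiv.orderOf_eq, orderOf_eq_prime h3c hne]
      exact h3 (ho ▸ Subgroup.orderOf_dvd_natCard R h2)
    have := mul_inv_eq_one.1 hc1
    exact mul_inv_eq_iff_eq_mul.1 this
  obtain ⟨a', b', hw⟩ := C.cD w (hwD _ C.z_mem_D) (hwD _ C.z'_mem_D)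
  have hr3 : r ^ 3 = 1 := by
    have hw3 : w ^ 3 = 1 := by
      have k : ∀ a b : Fin 3, dd a b ^ 3 = 1 := by decide +kernel
      rw [hw, ← map_pow, k, map_one]
    have : r = n⁻¹ * w * n := by simp only [w]; group
    rw [this, show n⁻¹ * w * n = MulAut.conj n⁻¹ w by simp, ← map_pow, hw3, map_one]
  by_contra hne
  exact h3 ((orderOf_eq_prime hr3 hne) ▸ Subgroup.orderOf_dvd_natCard R hr)

/-- Generation of a subgroup of order prime to 3 normalised by `D`. -/
theorem signalizer [Finite G] (R K : Subgroup G) (h3 : ¬ 3 ∣ Nat.card R)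
    (hR : C.D ≤ normalizer (R : Set G))
    (hz : ∀ r ∈ R, r * C.α mZ = C.α mZ * r → r ∈ K)
    (hz' : ∀ r ∈ R, r * C.α mZ' = C.α mZ' * r → r ∈ K) : R ≤ K := by
  haveI := C.D_comm
  have hcop : (Nat.card C.D).Coprime (Nat.card R) := by
    rw [C.card_D, show (9 : ℕ) = 3 ^ 2 by norm_num]
    exact Nat.Coprime.pow_left 2 ((Nat.prime_three.coprime_iff_not_dvd).2 h3)
  refine (CfsgLib.CoprimeAct.generated_by_centralizers C.D_not_cyclic hR hcop).symm.le.trans ?_
  refine iSup₂_le ?_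
  rintro d ⟨⟨a, b, rfl⟩, hd1⟩ r ⟨hr, hrc⟩
  have hc : r * C.α (dd a b) = C.α (dd a b) * r := mem_centralizer_singleton_iff.1 hrc
  by_cases ha : a = 0
  · subst ha
    refine hz' r hr ?_
    have hb : b ≠ 0 := by
      rintro rfl
      exact hd1 (by rw [show dd 0 0 = 1 by decide +kernel, map_one])
    rcases fin3_ne b hb with rfl | rfl
    · rwa [show dd 0 1 = mZ' by decide +kernel] at hc
    · rw [show dd 0 (-1) = mZ'⁻¹ by decide +kernel, map_inv] at hc
      simpa using (Commute.inv_right (hc : Commute r _)).eq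
  by_cases hb : b = 0
  · subst hb
    refine hz r hr ?_
    rcases fin3_ne a ha with rfl | rfl
    · rwa [show dd 1 0 = mZ by decide +kernel] at hc
    · rw [show dd (-1) 0 = mZ⁻¹ by decide +kernel, map_inv] at hc
      simpa using (Commute.inv_right (hc : Commute r _)).eq
  rw [C.fixed_off_axis R h3 hR a b ha hb r hr hc]
  exact one_mem _

/-- The centralizer of the four-group `⟨α mV, α mW⟩`. -/
def CV : Subgroup G := centralizer ({C.α mV, C.α mW} : Set G)

theorem mem_CV {x : G} : x ∈ C.CV ↔ x * C.α mV = C.α mV * x ∧ x * C.α mW = C.α mW * x := by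
  constructor
  · intro h
    exact ⟨(mem_centralizer_iff.1 h _ (Or.inl rfl)).symm, (mem_centralizer_iff.1 h _ (Or.inr rfl)).symm⟩
  · rintro ⟨h1, h2⟩
    rw [CV, mem_centralizer_iff]
    rintro w (rfl | rfl)
    · exact h1.symm
    · exact h2.symm

theorem z_mem_CV : C.α mZ ∈ C.CV := by
  rw [mem_CV, ← map_mul, ← map_mul, ← map_mul, ← map_mul]
  exact ⟨congrArg C.α (by decide +kernel), congrArg C.α (by decide +kernel)⟩

theorem CV_range_cases [Finite G] {x : G} (hx : x ∈ C.CV)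
    (h : x * C.α mZ * x⁻¹ = C.α mZ ∨ x * C.α mZ * x⁻¹ = (C.α mZ)⁻¹) :
    ∃ m : LK, C.α m = x ∧ (m.1.1 = 1 ∨ m.1.1 = c3 ∨ m.1.1 = c3 * c3) ∧
      (m.1.2 = 1 ∨ m.1.2 = mV.1.2 ∨ m.1.2 = mW.1.2 ∨ m.1.2 = mV.1.2 * mW.1.2) := by
  obtain ⟨m, rfl⟩ := C.mem_range_of_normalize h
  rw [mem_CV, ← map_mul, ← map_mul, ← map_mul, ← map_mul] at hx
  have h2 := four_even m.1.2 ⟨congrArg (fun x : LK => x.1.2) (C.inj hx.1),
    congrArg (fun x : LK => x.1.2) (C.inj hx.2)⟩
  refine ⟨m, rfl, even_fst m ?_, h2⟩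
  rcases h2 with h2 | h2 | h2 | h2 <;> rw [h2] <;> decide +kernel

theorem CV_comm_z [Finite G] {x : G} (hx : x ∈ C.CV)
    (h : x * C.α mZ * x⁻¹ = C.α mZ ∨ x * C.α mZ * x⁻¹ = (C.α mZ)⁻¹) :
    x * C.α mZ = C.α mZ * x := by
  obtain ⟨m, rfl, h1, -⟩ := C.CV_range_cases hx h
  rw [← map_mul, ← map_mul]
  refine congrArg C.α (lk_ext ?_ ?_)
  · show m.1.1 * c3 = c3 * m.1.1
    rcases h1 with h1 | h1 | h1 <;> rw [h1] <;> decide
  · show m.1.2 * 1 = 1 * m.1.2
    simp

/-- The Sylow 3-subgroups of `CV` have order 3. -/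
theorem CV_three_bound [Finite G] (R : Subgroup G) (hR : IsPGroup 3 R) (hRC : R ≤ C.CV)
    (hzR : C.α mZ ∈ R) : R = zpowers (C.α mZ) := by
  haveI : Fact (Nat.Prime 3) := ⟨Nat.prime_three⟩
  have hdvd := C.sylow_bound R hR
  have hab : ∀ x ∈ R, x * C.α mZ = C.α mZ * x := by
    have h9 : Nat.card R = 1 ∨ Nat.card R = 3 ∨ Nat.card R = 9 := by
      have h' : Nat.card R ∈ Nat.divisors 9 := Nat.mem_divisors.2 ⟨hdvd, by norm_num⟩
      rw [show Nat.divisors 9 = {1, 3, 9} by decide] at h'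
      simpa using h'
    intro x hx
    rcases h9 with h | h | h
    · have := eq_bot_of_card_eq _ h
      rw [this, mem_bot] at hx
      subst hx; simp
    · haveI := isCyclic_of_prime_card (α := R) (p := 3) h
      exact congrArg Subtype.val (IsCyclic.commGroup.mul_comm (⟨x, hx⟩ : R) ⟨_, hzR⟩)
    · exact congrArg Subtype.val
        ((IsPGroup.commGroupOfCardEqPrimeSq (p := 3) (by rw [h]; norm_num)).mul_comm
          (⟨x, hx⟩ : R) ⟨_, hzR⟩)
  refine le_antisymm (fun x hx => ?_) (zpowers_le.2 hzR)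
  obtain ⟨m, rfl⟩ := C.mem_range_of_comm (hab x hx)
  have hm := C.mem_CV.1 (hRC hx)
  rw [← map_mul, ← map_mul, ← map_mul, ← map_mul] at hm
  have hm9 : m ^ 9 = 1 := by
    refine C.inj ?_
    rw [map_pow, map_one]
    exact orderOf_dvd_iff_pow_eq_one.1 ((Subgroup.orderOf_dvd_natCard R hx).trans hdvd)
  have h2 := nine_comm m.1.2 ⟨congrArg (fun x : LK => x.1.2) hm9,
    congrArg (fun x : LK => x.1.2) (C.inj hm.1), congrArg (fun x : LK => x.1.2) (C.inj hm.2)⟩
  rcases even_fst m (by rw [h2]; simp) with h | h | h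
  · rw [show m = 1 from lk_ext h h2, map_one]; exact one_mem _
  · rw [show m = mZ from lk_ext h h2]; exact mem_zpowers _
  · rw [show m = mZ * mZ from lk_ext h (h2.trans (by decide +kernel)), map_mul]
    exact mul_mem (mem_zpowers _) (mem_zpowers _)

theorem z_ne_one : C.α mZ ≠ 1 := fun h => by
  rw [← map_one C.α] at h
  exact absurd (C.inj h) (by decide +kernel)

theorem z_order : orderOf (C.α mZ) = 3 :=
  orderOf_eq_prime (by rw [← map_pow, mZ_cube, map_one]) C.z_ne_one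

theorem card_zpowers_z : Nat.card (zpowers (C.α mZ)) = 3 := by
  rw [Nat.card_zpowers, C.z_order]

/-- `CV` is a normal subgroup of order prime to 3 extended by `⟨z⟩`. -/
theorem CV_complement [Finite G] : ∃ Q : Subgroup G, Q ≤ C.CV ∧ ¬ 3 ∣ Nat.card Q ∧
    C.D ≤ normalizer (Q : Set G) ∧ (∀ x ∈ C.CV, ¬ 3 ∣ orderOf x → x ∈ Q) ∧
    ∀ x ∈ C.CV, ∃ q ∈ Q, ∃ k : ℤ, x = q * C.α mZ ^ k := by
  haveI : Fact (Nat.Prime 3) := ⟨Nat.prime_three⟩
  let Z : Subgroup C.CV := (zpowers (C.α mZ)).subgroupOf C.CV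
  have hZle : zpowers (C.α mZ) ≤ C.CV := zpowers_le.2 C.z_mem_CV
  have hZ3 : Nat.card Z = 3 :=
    (Nat.card_congr (subgroupOfEquivOfLe hZle).toEquiv).trans C.card_zpowers_z
  have hZp : IsPGroup 3 Z := IsPGroup.of_card (n := 1) (by rw [hZ3, pow_one])
  obtain ⟨P, hP⟩ := hZp.exists_le_sylow
  have hPZ : (P : Subgroup C.CV) = Z := by
    have h1 := C.CV_three_bound ((P : Subgroup C.CV).map C.CV.subtype) (P.2.map _)
      (map_subtype_le _)
      ⟨⟨_, C.z_mem_CV⟩, hP (mem_subgroupOf.2 (mem_zpowers _)), rfl⟩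
    ext x
    rw [mem_subgroupOf, ← h1, mem_map]
    exact ⟨fun h => ⟨x, h, rfl⟩, fun ⟨w, hw, hwx⟩ => Subtype.ext hwx ▸ hw⟩
  have hNP : normalizer ((P : Subgroup C.CV) : Set C.CV) ≤ centralizer (P : Set C.CV) := by
    intro x hx
    rw [hPZ] at hx
    have hzx : (x : G) * C.α mZ * (x : G)⁻¹ ∈ zpowers (C.α mZ) := by
      have := (mem_normalizer_iff.1 hx ⟨_, C.z_mem_CV⟩).1 (mem_subgroupOf.2 (mem_zpowers _))
      simpa [Z, mem_subgroupOf] using this
    have hcases : (x : G) * C.α mZ * (x : G)⁻¹ = C.α mZ ∨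
        (x : G) * C.α mZ * (x : G)⁻¹ = (C.α mZ)⁻¹ := by
      rcases zpowers_three (by rw [← map_pow, mZ_cube, map_one]) hzx with h | h | h
      · exact absurd (conj_eq_one_iff.1 h) C.z_ne_one
      · exact Or.inl h
      · exact Or.inr h
    have hc := C.CV_comm_z x.2 hcases
    rw [mem_centralizer_iff]
    intro w hw
    have hw' : (w : G) ∈ zpowers (C.α mZ) := by
      change w ∈ (P : Subgroup C.CV) at hw
      rw [hPZ] at hw; exact mem_subgroupOf.1 hw
    obtain ⟨k, hk⟩ := mem_zpowers_iff.1 hw'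
    apply Subtype.ext
    show (w : G) * x = x * w
    rw [← hk]
    exact ((Commute.zpow_right (hc : Commute (x : G) _) k).eq).symm
  set f := MonoidHom.transferSylow P hNP
  have hc := MonoidHom.ker_transferSylow_isComplement' P hNP
  have hnd := MonoidHom.not_dvd_card_ker_transferSylow P hNP
  refine ⟨f.ker.map C.CV.subtype, map_subtype_le _, ?_, ?_, ?_, ?_⟩
  · rwa [Subgroup.card_map_of_injective (Subgroup.subtype_injective _)]
  · have hmem : ∀ x ∈ C.CV, ¬ 3 ∣ orderOf x → x ∈ f.ker.map C.CV.subtype := by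
      intro x hx ho
      refine ⟨⟨x, hx⟩, ?_, rfl⟩
      rw [SetLike.mem_coe, MonoidHom.mem_ker, ← orderOf_eq_one_iff]
      refine Nat.eq_one_of_dvd_coprimes (Nat.prime_three.coprime_iff_not_dvd.2 ho).symm ?_ ?_
      · have := orderOf_map_dvd f ⟨x, hx⟩
        rwa [← Subgroup.orderOf_coe (⟨x, hx⟩ : C.CV)] at this
      · have h := orderOf_dvd_natCard (f ⟨x, hx⟩)
        rwa [show Nat.card (P : Subgroup C.CV) = 3 by rw [hPZ]; exact hZ3] at h
    have hnorm : ∀ d ∈ C.D, ∀ q ∈ f.ker.map C.CV.subtype, d * q * d⁻¹ ∈ f.ker.map C.CV.subtype := by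
      intro d hd q hq
      obtain ⟨q', hq', rfl⟩ := hq
      refine hmem _ ?_ ?_
      · -- `D` normalises `CV`
        obtain ⟨a, b, rfl⟩ := hd
        have hq2 := q'.2
        rw [mem_CV] at hq2 ⊢
        have key : ∀ m : LK, (dd a b)⁻¹ * m * dd a b ∈ ({mV, mW, mV * mW} : Set LK) →
            (q' : G) * C.α mV = C.α mV * q' → (q' : G) * C.α mW = C.α mW * q' →
            C.α (dd a b) * q' * (C.α (dd a b))⁻¹ * C.α m =
              C.α m * (C.α (dd a b) * q' * (C.α (dd a b))⁻¹) := by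
          intro m hm h1 h2
          have h3 : Commute (q' : G) (C.α ((dd a b)⁻¹ * m * dd a b)) := by
            rcases hm with hm | hm | hm
            · rw [hm]; exact h1
            · rw [hm]; exact h2
            · rw [Set.mem_singleton_iff.1 hm, map_mul]; exact Commute.mul_right h1 h2
          rw [map_mul, map_mul, map_inv] at h3
          calc C.α (dd a b) * q' * (C.α (dd a b))⁻¹ * C.α m
              = C.α (dd a b) * (q' * ((C.α (dd a b))⁻¹ * C.α m * C.α (dd a b))) *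
                (C.α (dd a b))⁻¹ := by group
            _ = C.α (dd a b) * (((C.α (dd a b))⁻¹ * C.α m * C.α (dd a b)) * q') *
                (C.α (dd a b))⁻¹ := by rw [h3.eq]
            _ = C.α m * (C.α (dd a b) * q' * (C.α (dd a b))⁻¹) := by group
        have kk : ∀ a b : Fin 3,
            (dd a b)⁻¹ * mV * dd a b ∈ [mV, mW, mV * mW] ∧
            (dd a b)⁻¹ * mW * dd a b ∈ [mV, mW, mV * mW] := by decide +kernel
        exact ⟨key mV (by simpa using (kk a b).1) hq2.1 hq2.2,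
          key mW (by simpa using (kk a b).2) hq2.1 hq2.2⟩
      · rw [show d * C.CV.subtype q' * d⁻¹ = MulAut.conj d (q' : G) by simp, MulEquiv.orderOf_eq]
        intro h
        exact hnd (h.trans (by rw [Subgroup.orderOf_coe]; exact Subgroup.orderOf_dvd_natCard _ hq'))
    intro d hd
    rw [mem_normalizer_iff]
    refine fun q => ⟨hnorm d hd q, fun h => ?_⟩
    have := hnorm _ (inv_mem hd) _ h
    simpa [mul_assoc] using this
  · intro x hx ho
    refine ⟨⟨x, hx⟩, ?_, rfl⟩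
    rw [SetLike.mem_coe, MonoidHom.mem_ker, ← orderOf_eq_one_iff]
    refine Nat.eq_one_of_dvd_coprimes (Nat.prime_three.coprime_iff_not_dvd.2 ho).symm ?_ ?_
    · have := orderOf_map_dvd f ⟨x, hx⟩
      rwa [← Subgroup.orderOf_coe (⟨x, hx⟩ : C.CV)] at this
    · have h := orderOf_dvd_natCard (f ⟨x, hx⟩)
      rwa [show Nat.card (P : Subgroup C.CV) = 3 by rw [hPZ]; exact hZ3] at h
  · intro x hx
    obtain ⟨⟨q, p⟩, hqp⟩ := (Subgroup.isComplement_iff_existsUnique.1 hc ⟨x, hx⟩).exists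
    obtain ⟨k, hk⟩ : ((p : C.CV) : G) ∈ zpowers (C.α mZ) := by
      exact mem_subgroupOf.1 (SetLike.le_def.1 hPZ.le p.2)
    exact ⟨_, ⟨q, q.2, rfl⟩, k, by simpa [hk] using (congrArg Subtype.val hqp).symm⟩

/-- The element `g γ g` for the 3-cycle `γ = (0 1 k)`. -/
def gam3 (k : Fin 2) : G :=
  C.g * C.α (pk 1 (gam (![3, 4] k)) (gam_sign k)) * C.g⁻¹

/-- The dichotomy. -/
theorem dichotomy [Finite G] :
    (∃ k, C.gam3 k * C.α mV = C.α mV * C.gam3 k) ∨ (∀ x ∈ C.CV, x * C.α mZ = C.α mZ * x) := by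
  by_cases hex : ∃ k, C.gam3 k * C.α mV = C.α mV * C.gam3 k
  · exact Or.inl hex
  refine Or.inr ?_
  obtain ⟨Q, hQ, h3, hDQ, hQmem, hdec⟩ := C.CV_complement
  suffices hQz : ∀ q ∈ Q, q * C.α mZ = C.α mZ * q by
    intro x hx
    obtain ⟨q, hq, k, rfl⟩ := hdec x hx
    exact (Commute.mul_left (hQz q hq) ((Commute.refl _).zpow_left k)).eq
  intro q hq
  have hK : Q ≤ centralizer ({C.α mZ} : Set G) := by
    refine C.signalizer Q _ h3 hDQ (fun r _ h => mem_centralizer_singleton_iff.2 h) ?_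
    intro r hr hrz'
    suffices r = 1 by rw [this]; exact one_mem _
    by_contra hne
    apply hex
    obtain ⟨m, hm⟩ := C.mem_range_of_comm (x := C.g * r * C.g⁻¹) (by
      rw [← C.gz']
      calc C.g * r * C.g⁻¹ * (C.g * C.α mZ' * C.g⁻¹) = C.g * (r * C.α mZ') * C.g⁻¹ := by group
        _ = C.g * (C.α mZ' * r) * C.g⁻¹ := by rw [hrz']
        _ = C.g * C.α mZ' * C.g⁻¹ * (C.g * r * C.g⁻¹) := by group)
    have hr2 : r = C.g⁻¹ * C.α m * C.g := by rw [hm]; group
    have hgg : ∀ w : G, C.g⁻¹ * w * C.g = C.g * w * C.g⁻¹ := fun w => by rw [C.ginv]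
    have hcm : m * mZ = mZ * m := by
      refine C.inj ?_
      rw [map_mul, map_mul, hm, ← C.gz']
      calc C.g * r * C.g⁻¹ * (C.g * C.α mZ' * C.g⁻¹) = C.g * (r * C.α mZ') * C.g⁻¹ := by group
        _ = C.g * (C.α mZ' * r) * C.g⁻¹ := by rw [hrz']
        _ = C.g * C.α mZ' * C.g⁻¹ * (C.g * r * C.g⁻¹) := by group
    obtain ⟨h1, heven⟩ := cent_mZ m hcm
    -- powers of conjugates lying in `Q` have order prime to 3
    have hkey : ∀ w : LK, C.g⁻¹ * C.α w * C.g ∈ Q → (w.1.1 ^ 3 = 1 → w.1.1 = 1) ∧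
        (Perm.sign w.1.2 = 1 → w.1.2 ^ 10 = 1) := by
      intro w hw
      have hco : ¬ 3 ∣ orderOf (C.g⁻¹ * C.α w * C.g) := fun h =>
        h3 (h.trans (Subgroup.orderOf_dvd_natCard Q hw))
      rw [show C.g⁻¹ * C.α w * C.g = MulAut.conj C.g⁻¹ (C.α w) by simp, MulEquiv.orderOf_eq,
        orderOf_injective C.α C.inj] at hco
      have hone : ∀ {H : Type} [Group H] (f : LK →* H), f w ^ 3 = 1 → f w = 1 := fun f h => by
        rw [← orderOf_eq_one_iff]
        exact Nat.eq_one_of_dvd_coprimes (Nat.prime_three.coprime_iff_not_dvd.2 hco)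
          (orderOf_dvd_of_pow_eq_one h) (orderOf_map_dvd f w)
      refine ⟨hone ((MonoidHom.fst _ _).comp LK.subtype), fun hs => ?_⟩
      rcases even_order _ hs with h | h
      · exact h
      · rw [show w.1.2 = 1 from hone ((MonoidHom.snd _ _).comp LK.subtype) h, one_pow]
    have hmQ : C.g⁻¹ * C.α m * C.g ∈ Q := hr2 ▸ hr
    have hm1 : m.1.1 = 1 := (hkey m hmQ).1 (by
      rcases h1 with h | h | h <;> rw [h] <;> decide)
    -- conjugation by `z` in `Q` is conjugation by `mZ'` in coordinates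
    have hzc : ∀ w : LK, C.g⁻¹ * C.α w * C.g ∈ Q → C.g⁻¹ * C.α (mZ' * w * mZ'⁻¹) * C.g ∈ Q ∧
        C.g⁻¹ * C.α (mZ'⁻¹ * w * mZ') * C.g ∈ Q := by
      intro w hw
      have e : C.g⁻¹ * C.α mZ' * C.g = C.α mZ := by rw [hgg, C.gz']
      have hn := mem_normalizer_iff.1 (hDQ C.z_mem_D)
      have hn' := mem_normalizer_iff.1 (hDQ (inv_mem C.z_mem_D))
      refine ⟨?_, ?_⟩
      · convert (hn _).1 hw using 1
        rw [map_mul, map_mul, map_inv, ← e]; group
      · convert (hn' _).1 hw using 1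
        rw [map_mul, map_mul, map_inv, ← e]; group
    have hmul : ∀ {v w : LK}, C.g⁻¹ * C.α v * C.g ∈ Q → C.g⁻¹ * C.α w * C.g ∈ Q →
        C.g⁻¹ * C.α (v * w) * C.g ∈ Q := fun {v w} hv hw => by
      convert mul_mem hv hw using 1
      rw [map_mul]; group
    have hinv : ∀ {v : LK}, C.g⁻¹ * C.α v * C.g ∈ Q → C.g⁻¹ * C.α v⁻¹ * C.g ∈ Q := fun {v} hv => by
      convert inv_mem hv using 1
      rw [map_inv]; group
    set t := m.1.2 with htdef
    have ht : t ≠ 1 := by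
      intro h
      apply hne
      rw [hr2, show m = 1 from lk_ext hm1 h, map_one]
      group
    obtain ⟨hd, he⟩ := hzc m hmQ
    have hsc : Perm.sign c5 = 1 := by decide
    obtain ⟨k, i, j, hkij⟩ := invariant_pick t ⟨heven, ht, (hkey m hmQ).2 heven,
      (hkey _ (hmul hmQ hd)).2 (by simp [← htdef, heven, hsc, mZ', pk]),
      (hkey _ (hmul (hmul hmQ hmQ) hd)).2 (by simp [← htdef, heven, hsc, mZ', pk]),
      (hkey _ (hmul (hmul hmQ hd) he)).2 (by simp [← htdef, heven, hsc, mZ', pk]),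
      (hkey _ (hmul hmQ (hinv hd))).2 (by simp [← htdef, heven, hsc, mZ', pk]),
      (hkey _ (hmul (hmul (hmul hmQ hd) hmQ) he)).2 (by simp [← htdef, heven, hsc, mZ', pk])⟩
    refine ⟨k, ?_⟩
    have hg3 : C.gam3 k = C.α mZ ^ i.val * r * (C.α mZ ^ i.val)⁻¹ * C.α mZ ^ j.val := by
      have hmk : pk 1 (gam (![3, 4] k)) (gam_sign k) =
          mZ' ^ i.val * m * (mZ' ^ i.val)⁻¹ * mZ' ^ j.val := by
        refine lk_ext ?_ ?_
        · simp [pk, mZ', hm1]
        · simp [pk, mZ', ← htdef, hkij]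
      have e : C.α mZ = C.g * C.α mZ' * C.g⁻¹ := C.gz'.symm
      rw [gam3, hmk, hr2, hgg, e, map_mul, map_mul, map_mul, map_inv, map_pow, map_pow, conj_pow,
        conj_pow]
      group
    have hrV : Commute r (C.α mV) := (C.mem_CV.1 (hQ hr)).1
    have hzV : Commute (C.α mZ) (C.α mV) := (C.mem_CV.1 C.z_mem_CV).1
    rw [hg3]
    exact ((((hzV.pow_left _).mul_left hrV).mul_left (hzV.pow_left _).inv_left).mul_left
      (hzV.pow_left _)).eq
  exact mem_centralizer_singleton_iff.1 (hK hq)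

end Ctx

end CfsgLib.ThreeLocalEight
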