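import Mathlib.GroupTheory.SpecificGroups.Alternating
import Mathlib.Tactic

/-!
Finite facts about the subgroup of index two of `Sym(3) × Sym(5)` and its embedding in `Alt(8)`.
-/

set_option autoImplicit false
set_option maxRecDepth 100000

namespace CfsgLib.ThreeLocalEight

open Equiv Equiv.Perm

/-- The sign product on `Sym(3) × Sym(5)`. -/
abbrev signProd : Perm (Fin 3) × Perm (Fin 5) →* ℤˣ :=
  ((Equiv.Perm.sign).comp (MonoidHom.fst (Equiv.Perm (Fin 3)) (Equiv.Perm (Fin 5)))) *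
    ((Equiv.Perm.sign).comp (MonoidHom.snd (Equiv.Perm (Fin 3)) (Equiv.Perm (Fin 5))))

/-- The pairs with equal signs. -/
abbrev LK : Subgroup (Perm (Fin 3) × Perm (Fin 5)) := signProd.ker

/-- A pair in `LK`. -/
def pk (s : Perm (Fin 3)) (t : Perm (Fin 5)) (h : Perm.sign s * Perm.sign t = 1) : LK :=
  ⟨(s, t), h⟩

def c3 : Perm (Fin 3) := swap 0 1 * swap 1 2
def t3 : Perm (Fin 3) := swap 0 1
def c5 : Perm (Fin 5) := swap 0 1 * swap 1 2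
def mZ : LK := pk c3 1 (by decide)
def mZ' : LK := pk 1 c5 (by decide)
def mA : LK := pk 1 (swap 0 1 * swap 3 4) (by decide)
def mA' : LK := pk t3 (swap 3 4) (by decide)
def mX : LK := pk t3 (swap 0 1) (by decide)
def mV : LK := pk 1 (swap 0 4 * swap 1 2) (by decide)
def mW : LK := pk 1 (swap 1 4 * swap 0 2) (by decide)
/-- the 3-cycle `(0 1 k)` -/
def gam (k : Fin 5) : Perm (Fin 5) := swap 0 1 * swap 1 k

theorem lk_ext {a b : LK} (h1 : a.1.1 = b.1.1) (h2 : a.1.2 = b.1.2) : a = b :=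
  Subtype.ext (Prod.ext h1 h2)

theorem lk_sign (a : LK) : Perm.sign a.1.1 * Perm.sign a.1.2 = 1 := a.2

theorem forall_lk {p : Perm (Fin 3) → Perm (Fin 5) → Prop}
    (h : ∀ s t, Perm.sign s * Perm.sign t = 1 → p s t) (a : LK) : p a.1.1 a.1.2 :=
  h _ _ a.2

/-- Elements centralising `mZ`. -/
theorem cent_mZ : ∀ a : LK, a * mZ = mZ * a → (a.1.1 = 1 ∨ a.1.1 = c3 ∨ a.1.1 = c3 * c3) ∧
    Perm.sign a.1.2 = 1 := by
  intro a h
  have h1 : a.1.1 * c3 = c3 * a.1.1 := congrArg (fun x : LK => x.1.1) h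
  have hs : ∀ s : Perm (Fin 3), s * c3 = c3 * s → (s = 1 ∨ s = c3 ∨ s = c3 * c3) ∧
      Perm.sign s = 1 := by decide
  obtain ⟨h2, h3⟩ := hs _ h1
  exact ⟨h2, by have := lk_sign a; rwa [h3, one_mul] at this⟩

theorem diag_count : Nat.card {p : Perm (Fin 3) × Perm (Fin 5) //
    Perm.sign p.1 * Perm.sign p.2 = 1 ∧ (p.2 * c5 * p.2⁻¹ = c5 ∨ p.2 * c5 * p.2⁻¹ = c5⁻¹)} = 36 := by
  rw [Nat.card_eq_fintype_card]; decide +kernel

theorem three_normal_aux : ∀ t : Perm (Fin 5), (t ^ 3 = 1 ∧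
    ((swap 0 2 * swap 1 3) * t = t * (swap 0 2 * swap 1 3) ∨
      (swap 0 2 * swap 1 3) * t = t⁻¹ * (swap 0 2 * swap 1 3)) ∧
    ((swap 0 4 * swap 1 2) * t = t * (swap 0 4 * swap 1 2) ∨
      (swap 0 4 * swap 1 2) * t = t⁻¹ * (swap 0 4 * swap 1 2))) → t = 1 := by decide +kernel

theorem three_conj : ∀ t : Perm (Fin 5), t ^ 3 = 1 → t ≠ 1 →
    ∃ p : Perm (Fin 5), Perm.sign p = 1 ∧ p * c5 * p⁻¹ = t := by decide +kernel

theorem three_fst : ∀ s : Perm (Fin 3), s ^ 3 = 1 → s = 1 ∨ s = c3 ∨ s = c3 * c3 := by decide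

theorem three_elts_fst : ∀ s : Perm (Fin 3), Perm.sign s = 1 → s = 1 ∨ s = c3 ∨ s = c3 * c3 := by decide

theorem fst_inverter : ∀ s : Perm (Fin 3), s * c3 = c3⁻¹ * s →
    ∃ a : Fin 3, s = c3 ^ a.val * t3 * (c3 ^ a.val)⁻¹ := by decide

theorem snd_inverter : ∀ t : Perm (Fin 5), t * c5 = c5⁻¹ * t ∧ t ^ 2 = 1 ∧ Perm.sign t = -1 →
    ∃ a : Fin 3, t = c5 ^ a.val * swap 0 1 * (c5 ^ a.val)⁻¹ := by decide +kernel

theorem fst_flip : ∀ s : Perm (Fin 3), s * c3 = c3⁻¹ * s ∧ s * t3 = t3 * s → s = t3 := by decide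

theorem fst_fix : ∀ s : Perm (Fin 3), s * c3 = c3 * s ∧ s * t3 = t3 * s → s = 1 := by decide

theorem snd_fix : ∀ t : Perm (Fin 5), t * c5 = c5 * t ∧ t * swap 0 1 = swap 0 1 * t ∧
    Perm.sign t = -1 → t = swap 3 4 := by decide +kernel

theorem fst_sign_inv : ∀ s : Perm (Fin 3), s * c3 = c3⁻¹ * s → Perm.sign s = -1 := by decide

theorem invariant_pick : ∀ t : Perm (Fin 5), (Perm.sign t = 1 ∧ t ≠ 1 ∧ t ^ 10 = 1 ∧
    (t * (c5 * t * c5⁻¹)) ^ 10 = 1 ∧ (t * t * (c5 * t * c5⁻¹)) ^ 10 = 1 ∧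
    (t * (c5 * t * c5⁻¹) * (c5⁻¹ * t * c5)) ^ 10 = 1 ∧ (t * (c5 * t * c5⁻¹)⁻¹) ^ 10 = 1 ∧
    (t * (c5 * t * c5⁻¹) * t * (c5⁻¹ * t * c5)) ^ 10 = 1) →
    ∃ k : Fin 2, ∃ i j : Fin 3,
      c5 ^ i.val * t * (c5 ^ i.val)⁻¹ * c5 ^ j.val = gam (![3, 4] k) := by decide +kernel

theorem gam_rels : ∀ k : Fin 2, gam (![3, 4] k) ^ 3 = 1 ∧ (c5 * gam (![3, 4] k)) ^ 2 = 1 ∧
    swap 0 1 * gam (![3, 4] k) = (gam (![3, 4] k))⁻¹ * swap 0 1 ∧
    (gam (![3, 4] k) * ((swap 0 1 * swap 3 4) * (gam (![3, 4] k))⁻¹ * (swap 0 1 * swap 3 4))) ^ 2 = 1 ∧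
    swap 0 1 * swap 3 4 = gam (![3, 4] k) * ((swap 0 1 * swap 3 4) * (gam (![3, 4] k))⁻¹ *
      (swap 0 1 * swap 3 4)) ^ 2 * gam (![3, 4] k) := by decide +kernel

theorem stab_three : ∀ t : Perm (Fin 5), Perm.sign t = 1 ∧ t 3 = 3 → ∃ i : Fin 3,
    t * c5 ^ i.val = 1 ∨ t * c5 ^ i.val = swap 0 4 * swap 1 2 ∨
    t * c5 ^ i.val = c5 * (swap 0 4 * swap 1 2) * c5⁻¹ ∨
    t * c5 ^ i.val = c5⁻¹ * (swap 0 4 * swap 1 2) * c5 := by decide +kernel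

theorem move_three : ∀ i : Fin 5, ∃ t : Perm (Fin 5), Perm.sign t = 1 ∧ t 3 = i := by decide +kernel

theorem move_pair : ∀ i j : Fin 5, i ≠ j →
    ∃ t : Perm (Fin 5), Perm.sign t = 1 ∧ t 3 = i ∧ t 4 = j := by decide +kernel

theorem even_fst (a : LK) (h : Perm.sign a.1.2 = 1) :
    a.1.1 = 1 ∨ a.1.1 = c3 ∨ a.1.1 = c3 * c3 := by
  refine three_elts_fst _ ?_
  have := lk_sign a
  rwa [h, mul_one] at this

theorem even_order : ∀ t : Perm (Fin 5), Perm.sign t = 1 → t ^ 10 = 1 ∨ t ^ 3 = 1 := by decide +kernel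

theorem nine_comm : ∀ t : Perm (Fin 5), t ^ 9 = 1 ∧
    t * (swap 0 4 * swap 1 2) = (swap 0 4 * swap 1 2) * t ∧
    t * (swap 1 4 * swap 0 2) = (swap 1 4 * swap 0 2) * t → t = 1 := by decide +kernel

theorem four_even : ∀ t : Perm (Fin 5), t * (swap 0 4 * swap 1 2) = (swap 0 4 * swap 1 2) * t ∧
    t * (swap 1 4 * swap 0 2) = (swap 1 4 * swap 0 2) * t →
    t = 1 ∨ t = swap 0 4 * swap 1 2 ∨ t = swap 1 4 * swap 0 2 ∨
    t = (swap 0 4 * swap 1 2) * (swap 1 4 * swap 0 2) := by decide +kernel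

theorem gam_sign : ∀ k : Fin 2,
    Perm.sign (1 : Perm (Fin 3)) * Perm.sign (gam (![3, 4] k)) = 1 := by decide +kernel

end CfsgLib.ThreeLocalEight
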